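import Groth.Agent.Lib.Adic.Complete
import Groth.Agent.H24.PowerSeries
import Mathlib.RingTheory.AdicCompletion.Functoriality
import Mathlib.RingTheory.AdicCompletion.Completeness
import Mathlib.RingTheory.Kaehler.Basic
import Mathlib.RingTheory.Etale.Kaehler
import Mathlib.RingTheory.Support
import Mathlib.RingTheory.TensorProduct.Finite

/-!
# The completed module of differentials of a complete local algebra over a field
-/

set_option autoImplicit false
set_option linter.style.haveILetI false

universe u

open IsLocalRing TensorProduct

namespace Groth.Agent.H2.Omega.Basic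

variable (k A : Type u) [Field k] [CommRing A] [Algebra k A] [IsLocalRing A]

/-- The completed module of differentials. -/
abbrev Om : Type u := AdicCompletion (maximalIdeal A) (KaehlerDifferential k A)

/-- The completed differential, as a map. -/
noncomputable def dh (a : A) : Om k A :=
  AdicCompletion.of (maximalIdeal A) (KaehlerDifferential k A) (KaehlerDifferential.D k A a)

section

variable {k A}

theorem dh_add (a b : A) : dh k A (a + b) = dh k A a + dh k A b := by
  simp [dh]

theorem dh_mul (a b : A) : dh k A (a * b) = a • dh k A b + b • dh k A a := by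
  simp [dh]

theorem dh_algebraMap (c : k) : dh k A (algebraMap k A c) = 0 := by
  simp [dh]

theorem dh_smul (c : k) (a : A) : dh k A (c • a) = algebraMap k A c • dh k A a := by
  rw [Algebra.smul_def, dh_mul, dh_algebraMap, smul_zero, add_zero]

end

variable [IsNoetherianRing A] [IsAdicComplete (maximalIdeal A) A]

theorem finite [Module.Finite k (ResidueField A)] : Module.Finite A (Om k A) := by
  let K := IsLocalRing.ResidueField A
  let M := KaehlerDifferential k A
  let m := IsLocalRing.maximalIdeal A
  have hsurj : Function.Surjective (algebraMap A K) := IsLocalRing.residue_surjective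
  haveI hKfin : Module.Finite A K := Module.Finite.of_surjective (Algebra.linearMap A K) hsurj
  haveI : Module.Finite K (Ω[K⁄k]) := inferInstance
  haveI : Module.Finite A (Ω[K⁄k]) := Module.Finite.trans K _
  haveI : Module.Finite A (TensorProduct A K M) := by
    let f := (KaehlerDifferential.mapBaseChange k A K).restrictScalars A
    let g := KaehlerDifferential.kerCotangentToTensor k A K
    haveI : Module.Finite A ↥(RingHom.ker (algebraMap A K)) :=
      Module.Finite.iff_fg.2 (IsNoetherian.noetherian _)
    haveI : Module.Finite A (RingHom.ker (algebraMap A K)).Cotangent :=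
      Module.Finite.of_surjective _ (Ideal.toCotangent_surjective _)
    have hex : Function.Exact g f := KaehlerDifferential.exact_kerCotangentToTensor_mapBaseChange k A K hsurj
    haveI : Module.Finite A (LinearMap.ker f) := by
      rw [hex.linearMap_ker_eq]; infer_instance
    haveI := Module.Finite.equiv f.quotKerEquivRange.symm
    exact Module.Finite.of_submodule_quotient (LinearMap.ker f)
  haveI hq : Module.Finite A (M ⧸ (m • ⊤ : Submodule A M)) :=
    haveI : Module.Finite A (TensorProduct A (A ⧸ m) M) := ‹Module.Finite A (TensorProduct A K M)›
    Module.Finite.equiv (TensorProduct.quotTensorEquivQuotSMul M m)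
  obtain ⟨n, e, he⟩ := Module.Finite.exists_fin' A (M ⧸ (m • ⊤ : Submodule A M))
  obtain ⟨f, hf⟩ := Module.projective_lifting_property (Submodule.mkQ (m • ⊤ : Submodule A M)) e
    (Submodule.mkQ_surjective _)
  have h : Function.Surjective (Submodule.mkQ (m • ⊤) ∘ₗ f) := hf ▸ he
  haveI : IsAdicComplete m (Fin n → A) := Groth.Agent.Lib.Adic.Complete.isAdicComplete_of_finite
  haveI : Module.Finite A (AdicCompletion m (Fin n → A)) :=
    Module.Finite.equiv (AdicCompletion.ofLinearEquiv m (Fin n → A))
  exact Module.Finite.of_surjective ((AdicCompletion.map m f).restrictScalars A)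
    (AdicCompletion.map_surjective_of_mkQ_comp_surjective h)

/-- The differentials generate. -/
theorem span_range_dh [Module.Finite k (ResidueField A)] :
    Submodule.span A (Set.range (dh k A)) = ⊤ := by
  haveI := finite k A
  let m := maximalIdeal A
  let M := KaehlerDifferential k A
  let N := Submodule.span A (Set.range (dh k A))
  have hof : ∀ w : M, AdicCompletion.of m M w ∈ N := fun w => by
    have hw : w ∈ Submodule.span A (Set.range (KaehlerDifferential.D k A)) := by
      rw [KaehlerDifferential.span_range_derivation]; trivial
    induction hw using Submodule.span_induction with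
    | mem x hx => obtain ⟨a, rfl⟩ := hx; exact Submodule.subset_span ⟨a, rfl⟩
    | zero => rw [map_zero]; exact zero_mem _
    | add x y _ _ hx hy => rw [map_add]; exact add_mem hx hy
    | smul a x _ hx => rw [map_smul]; exact Submodule.smul_mem _ a hx
  refine top_le_iff.1 (Submodule.le_of_le_smul_of_le_jacobson_bot Module.Finite.fg_top
    (IsLocalRing.maximalIdeal_le_jacobson ⊥) fun y _ => ?_)
  obtain ⟨w, hw⟩ := Submodule.mkQ_surjective _ (AdicCompletion.eval m M 1 y)
  have h1 : y - AdicCompletion.of m M w ∈ (m ^ 1 • ⊤ : Submodule A (AdicCompletion m M)) := by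
    rw [AdicCompletion.pow_smul_top_eq_ker_eval (IsNoetherian.noetherian m), LinearMap.mem_ker,
      map_sub, AdicCompletion.eval_of, hw, sub_self]
  rw [pow_one] at h1
  exact Submodule.mem_sup.2 ⟨_, hof w, _, h1, by abel⟩

section Lift

variable {N : Type u} [AddCommGroup N] [Module A N] [Module k N] [IsScalarTower k A N]

/-- Derivations into finite modules factor through the completed differentials. -/
theorem exists_lift [Module.Finite A N] (δ : Derivation k A N) :
    ∃ f : Om k A →ₗ[A] N, ∀ a, f (dh k A a) = δ a := by
  haveI : IsAdicComplete (maximalIdeal A) N := Lib.Adic.Complete.isAdicComplete_of_finite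
  refine ⟨(AdicCompletion.ofLinearEquiv (maximalIdeal A) N).symm.toLinearMap ∘ₗ
    ((AdicCompletion.map (maximalIdeal A) δ.liftKaehlerDifferential).restrictScalars A), fun a => ?_⟩
  simp only [dh, LinearMap.comp_apply, LinearMap.restrictScalars_apply, LinearEquiv.coe_coe,
    AdicCompletion.map_of, Derivation.liftKaehlerDifferential_comp_D, AdicCompletion.ofLinearEquiv_symm_of]

end Lift

end Groth.Agent.H2.Omega.Basic
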