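import Groth.Agent.Lib.Adic.Complete
import Groth.Agent.H24.PowerSeries
import Mathlib.RingTheory.Support
import Mathlib.RingTheory.TensorProduct.Finite
import Mathlib.RingTheory.MvPowerSeries.Trunc
import Mathlib.RingTheory.Derivation.Basic
import Mathlib.RingTheory.Filtration
import Mathlib.RingTheory.LocalRing.ResidueField.Basic

/-!
# Fibres of finite modules, and finite maps from power series rings
-/

set_option autoImplicit false
set_option linter.style.haveILetI false

universe u

open IsLocalRing TensorProduct

namespace Groth.Agent.H2.Omega.Tools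

section Module

variable {A : Type u} [CommRing A] {M : Type u} [AddCommGroup M] [Module A M] (p : Ideal A) [p.IsPrime]

/-- The elements of `s` generate `M` at `p`. -/
def GenAt (s : Set M) : Prop := ∀ y : M, ∃ t ∉ p, t • y ∈ Submodule.span A s

theorem genAt_iff_localized (s : Set M) :
    GenAt p s ↔ Submodule.span (Localization.AtPrime p)
      (LocalizedModule.mkLinearMap p.primeCompl M '' s) = ⊤ := by
  rw [← Submodule.localized'_span (Localization.AtPrime p) p.primeCompl
    (LocalizedModule.mkLinearMap p.primeCompl M), Submodule.eq_top_iff']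
  constructor
  · intro h x
    obtain ⟨⟨y, r⟩, rfl⟩ := IsLocalizedModule.mk'_surjective p.primeCompl
      (LocalizedModule.mkLinearMap p.primeCompl M) x
    obtain ⟨t, ht, hy⟩ := h y
    exact ⟨t • y, hy, (⟨t, ht⟩ : p.primeCompl) * r, IsLocalizedModule.mk'_cancel_left _ _ _ _⟩
  · intro h y
    obtain ⟨m, hm, r, hr⟩ := h (LocalizedModule.mkLinearMap p.primeCompl M y)
    rw [IsLocalizedModule.mk'_eq_iff, Submonoid.smul_def, ← map_smul] at hr
    obtain ⟨c, hc⟩ := IsLocalizedModule.exists_of_eq (S := p.primeCompl) hr
    refine ⟨(c : A) * r, p.primeCompl.mul_mem c.2 r.2, ?_⟩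
    rw [mul_smul, ← Submonoid.smul_def, ← hc]
    exact Submodule.smul_mem _ _ hm

/-- Generation at `p` is generation of the fibre. -/
theorem genAt_iff_fibre [Module.Finite A M] (s : Set M) :
    GenAt p s ↔ Submodule.span p.ResidueField
      (TensorProduct.mk A p.ResidueField M 1 '' s) = ⊤ := by
  let N := Submodule.span A s
  let F := Submodule.span p.ResidueField (TensorProduct.mk A p.ResidueField M 1 '' s)
  constructor
  · intro h
    rw [Submodule.eq_top_iff']
    intro z
    induction z using TensorProduct.induction_on with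
    | zero => exact zero_mem _
    | add a b ha hb => exact add_mem ha hb
    | tmul c y =>
      obtain ⟨t, ht, hty⟩ := h y
      have h1 : (1 : p.ResidueField) ⊗ₜ[A] (t • y) ∈ F := by
        generalize t • y = w at hty
        induction hty using Submodule.span_induction with
        | mem x hx => exact Submodule.subset_span ⟨x, hx, rfl⟩
        | zero => rw [TensorProduct.tmul_zero]; exact zero_mem _
        | add a b _ _ ha hb => rw [TensorProduct.tmul_add]; exact add_mem ha hb
        | smul r x _ hx =>
          rw [TensorProduct.tmul_smul, ← algebraMap_smul p.ResidueField r]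
          exact Submodule.smul_mem _ _ hx
      have hu : algebraMap A p.ResidueField t ≠ 0 := by
        simpa [Ideal.algebraMap_residueField_eq_zero] using ht
      have h2 : c ⊗ₜ[A] y = (c * (algebraMap A p.ResidueField t)⁻¹) • ((1 : p.ResidueField) ⊗ₜ[A] (t • y)) := by
        rw [TensorProduct.tmul_smul, ← algebraMap_smul p.ResidueField t, smul_smul, mul_assoc,
          inv_mul_cancel₀ hu, mul_one, TensorProduct.smul_tmul', smul_eq_mul, mul_one]
      rw [h2]
      exact Submodule.smul_mem _ _ h1
  · intro h
    have hsub : Subsingleton (p.ResidueField ⊗[A] (M ⧸ N)) := by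
      refine subsingleton_of_forall_eq 0 fun z => ?_
      obtain ⟨w, rfl⟩ := LinearMap.lTensor_surjective p.ResidueField N.mkQ_surjective z
      have hF : F ≤ LinearMap.ker (N.mkQ.baseChange p.ResidueField) := Submodule.span_le.2 (by
        rintro _ ⟨x, hx, rfl⟩
        rw [SetLike.mem_coe, LinearMap.mem_ker, TensorProduct.mk_apply, LinearMap.baseChange_tmul,
          Submodule.mkQ_apply, (Submodule.Quotient.mk_eq_zero N).2 (Submodule.subset_span hx),
          TensorProduct.tmul_zero])
      exact hF (show w ∈ F by rw [show F = ⊤ from h]; trivial)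
    have hn : (⟨p, ‹_›⟩ : PrimeSpectrum A) ∉ Module.support A (M ⧸ N) := by
      rw [Module.mem_support_iff_nontrivial_residueField_tensorProduct]
      exact not_nontrivial_iff_subsingleton.2 hsub
    intro y
    obtain ⟨t, ht, hty⟩ := (Module.notMem_support_iff').1 hn (N.mkQ y)
    rw [← map_smul, Submodule.mkQ_apply, Submodule.Quotient.mk_eq_zero] at hty
    exact ⟨t, ht, hty⟩

theorem GenAt.mono {q : Ideal A} [q.IsPrime] (hqp : q ≤ p) {s : Set M} (h : GenAt p s) : GenAt q s :=
  fun y => let ⟨t, ht, hy⟩ := h y; ⟨t, fun hq => ht (hqp hq), hy⟩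

variable [Module.Finite A M]

theorem exists_genAt : ∃ s : Fin (Module.finrank p.ResidueField (p.ResidueField ⊗[A] M)) → M,
    GenAt p (Set.range s) := by
  classical
  have hspan : Submodule.span p.ResidueField (Set.range (TensorProduct.mk A p.ResidueField M 1)) = ⊤ := by
    rw [Submodule.eq_top_iff']
    intro z
    induction z using TensorProduct.induction_on with
    | zero => exact zero_mem _
    | add a b ha hb => exact add_mem ha hb
    | tmul c y =>
      rw [show c ⊗ₜ[A] y = c • ((1 : p.ResidueField) ⊗ₜ[A] y) by
        rw [TensorProduct.smul_tmul', smul_eq_mul, mul_one]]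
      exact Submodule.smul_mem _ _ (Submodule.subset_span ⟨y, rfl⟩)
  obtain ⟨b, hb, hspan', hli⟩ := exists_linearIndependent p.ResidueField
    (Set.range (TensorProduct.mk A p.ResidueField M 1))
  rw [hspan] at hspan'
  let B := Module.Basis.mk hli (by rw [Subtype.range_coe, hspan'])
  haveI := Module.Finite.finite_basis B
  haveI := Fintype.ofFinite b
  have hcard : Fintype.card b = Module.finrank p.ResidueField (p.ResidueField ⊗[A] M) :=
    (Module.finrank_eq_card_basis B).symm
  let e := (Fintype.equivFinOfCardEq hcard).symm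
  choose g hg using fun i => hb (e i).2
  refine ⟨g, (genAt_iff_fibre p _).2 ?_⟩
  rw [← hspan', ← Set.range_comp]
  congr 1
  ext z
  constructor
  · rintro ⟨i, rfl⟩; rw [Function.comp_apply, hg]; exact (e i).2
  · intro hz; exact ⟨e.symm ⟨z, hz⟩, by rw [Function.comp_apply, hg, Equiv.apply_symm_apply]⟩

theorem finrank_le_of_genAt {m : ℕ} (s : Fin m → M) (h : GenAt p (Set.range s)) :
    Module.finrank p.ResidueField (p.ResidueField ⊗[A] M) ≤ m := by
  rw [genAt_iff_fibre, ← Set.range_comp] at h
  have h2 := finrank_range_le_card (R := p.ResidueField) (TensorProduct.mk A p.ResidueField M 1 ∘ s)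
  rw [Set.finrank, h, finrank_top, Fintype.card_fin] at h2
  exact h2

/-- Fibre dimension is upper semicontinuous. -/
theorem finrank_mono {q : Ideal A} [q.IsPrime] (hqp : q ≤ p) :
    Module.finrank q.ResidueField (q.ResidueField ⊗[A] M) ≤
      Module.finrank p.ResidueField (p.ResidueField ⊗[A] M) := by
  obtain ⟨s, hs⟩ := exists_genAt (M := M) p
  exact finrank_le_of_genAt q s (hs.mono p hqp)

theorem exists_span_iff (m : ℕ) :
    (∃ s : Fin m → LocalizedModule p.primeCompl M,
        Submodule.span (Localization.AtPrime p) (Set.range s) = ⊤) ↔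
      Module.finrank p.ResidueField (p.ResidueField ⊗[A] M) ≤ m := by
  constructor
  · rintro ⟨s, hs⟩
    choose x hx using fun i => IsLocalizedModule.mk'_surjective p.primeCompl
      (LocalizedModule.mkLinearMap p.primeCompl M) (s i)
    refine finrank_le_of_genAt p (fun i => (x i).1) ((genAt_iff_localized p _).2 ?_)
    rw [eq_top_iff, ← hs, Submodule.span_le]
    rintro _ ⟨i, rfl⟩
    rw [SetLike.mem_coe, ← hx i, Function.uncurry, ← one_smul A (x i).1, ← mul_one (x i).2,
      ← IsLocalizedModule.mk'_smul_mk' (Localization.AtPrime p)]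
    refine Submodule.smul_mem _ _ (Submodule.subset_span ⟨(x i).1, ⟨i, rfl⟩, ?_⟩)
    simp
  · intro h
    obtain ⟨s, hs⟩ := exists_genAt (M := M) p
    refine ⟨fun i => if hi : (i : ℕ) < _ then LocalizedModule.mkLinearMap p.primeCompl M (s ⟨i, hi⟩) else 0,
      ?_⟩
    rw [eq_top_iff, ← (genAt_iff_localized p _).1 hs, Submodule.span_le]
    rintro _ ⟨_, ⟨i, rfl⟩, rfl⟩
    exact Submodule.subset_span ⟨Fin.castLE h i, by simp⟩

end Module

section PowerSeries

variable {k A : Type u} [Field k] [CommRing A] [Algebra k A] [IsLocalRing A] [IsNoetherianRing A]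

theorem finite_quotient_pow [Module.Finite k (ResidueField A)] (N : ℕ) :
    Module.Finite k (A ⧸ maximalIdeal A ^ N) := by
  induction N with
  | zero =>
    haveI : Subsingleton (A ⧸ maximalIdeal A ^ 0) := by
      rw [pow_zero, Ideal.one_eq_top]; exact Submodule.Quotient.subsingleton_iff.2 rfl
    exact inferInstance
  | succ N ih =>
    let F : Ideal (A ⧸ maximalIdeal A ^ (N + 1)) := (maximalIdeal A ^ N).map (Ideal.Quotient.mk _)
    obtain ⟨s, hs⟩ := IsNoetherian.noetherian (maximalIdeal A ^ N)
    obtain ⟨g, hg⟩ := (Module.finite_def.1 ‹Module.Finite k (ResidueField A)›)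
    classical
    choose lg hlg using fun z : ResidueField A => IsLocalRing.residue_surjective z
    haveI hF : Module.Finite k F := by
      refine Module.Finite.iff_fg (N := F.restrictScalars k) |>.2
        ⟨(g ×ˢ s).image fun z => Ideal.Quotient.mk (maximalIdeal A ^ (N + 1)) (lg z.1 * z.2), ?_⟩
      refine le_antisymm (Submodule.span_le.2 ?_) fun y hy => ?_
      · intro z hz
        simp only [Finset.coe_image, Set.mem_image, Finset.mem_coe, Finset.mem_product] at hz
        obtain ⟨⟨a, b⟩, ⟨-, hb⟩, rfl⟩ := hz
        exact Ideal.mem_map_of_mem _ (Ideal.mul_mem_left _ _ (hs ▸ Ideal.subset_span hb))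
      · obtain ⟨x, hx, rfl⟩ := (Ideal.mem_map_iff_of_surjective _ Ideal.Quotient.mk_surjective).1 hy
        rw [← hs] at hx
        obtain ⟨c, -, rfl⟩ := Submodule.mem_span_finset.1 hx
        rw [map_sum]
        refine Submodule.sum_mem _ fun b hb => ?_
        have hc : residue A (c b) ∈ Submodule.span k (g : Set (ResidueField A)) := hg ▸ Submodule.mem_top
        obtain ⟨e, -, he⟩ := Submodule.mem_span_finset.1 hc
        have hd : c b - ∑ a ∈ g, e a • lg a ∈ maximalIdeal A := by
          rw [← residue_eq_zero_iff, map_sub, map_sum, sub_eq_zero, ← he]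
          refine Finset.sum_congr rfl fun a _ => ?_
          rw [Algebra.smul_def, Algebra.smul_def, map_mul, hlg]
          rfl
        have hbN : b ∈ maximalIdeal A ^ N := hs ▸ Ideal.subset_span hb
        have h0 : Ideal.Quotient.mk (maximalIdeal A ^ (N + 1)) (c b • b) =
            Ideal.Quotient.mk (maximalIdeal A ^ (N + 1)) (∑ a ∈ g, e a • (lg a * b)) := by
          rw [Ideal.Quotient.eq, smul_eq_mul]
          have := Ideal.mul_mem_mul hd hbN
          rw [← pow_succ'] at this
          convert this using 1
          rw [sub_mul, Finset.sum_mul]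
          simp only [smul_mul_assoc]
        rw [h0, map_sum]
        refine Submodule.sum_mem _ fun a ha => ?_
        rw [show Ideal.Quotient.mk (maximalIdeal A ^ (N + 1)) (e a • (lg a * b)) =
          e a • Ideal.Quotient.mk (maximalIdeal A ^ (N + 1)) (lg a * b) from
            map_smul (Ideal.Quotient.mkₐ k (maximalIdeal A ^ (N + 1))) _ _]
        refine Submodule.smul_mem _ _ (Submodule.subset_span ?_)
        simp only [Finset.coe_image, Set.mem_image, Finset.mem_coe, Finset.mem_product]
        exact ⟨(a, b), ⟨ha, hb⟩, rfl⟩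
    let π : (A ⧸ maximalIdeal A ^ (N + 1)) →ₐ[k] A ⧸ maximalIdeal A ^ N :=
      Ideal.Quotient.factorₐ k (Ideal.pow_le_pow_right N.le_succ)
    haveI : Module.Finite k (LinearMap.ker π.toLinearMap) := by
      have e : LinearMap.ker π.toLinearMap = F.restrictScalars k := by
        ext y
        obtain ⟨x, rfl⟩ := Ideal.Quotient.mk_surjective y
        rw [LinearMap.mem_ker, Submodule.restrictScalars_mem]
        show Ideal.Quotient.mk (maximalIdeal A ^ N) x = 0 ↔ _
        rw [Ideal.Quotient.eq_zero_iff_mem,
          Ideal.mem_quotient_iff_mem (Ideal.pow_le_pow_right N.le_succ)]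
      rw [e]; exact hF
    haveI : Module.Finite k ((A ⧸ maximalIdeal A ^ (N + 1)) ⧸ LinearMap.ker π.toLinearMap) :=
      Module.Finite.equiv (π.toLinearMap.quotKerEquivOfSurjective (fun y => by
        obtain ⟨x, rfl⟩ := Ideal.Quotient.mk_surjective y
        exact ⟨Ideal.Quotient.mk _ x, rfl⟩)).symm
    exact Module.Finite.of_submodule_quotient (LinearMap.ker π.toLinearMap)

variable [IsAdicComplete (maximalIdeal A) A] [Module.Finite k (ResidueField A)]

/-- The finite map from a power series ring given by parameters. -/
theorem exists_finite_algHom {n : ℕ} (x : Fin n → A) (hx : ∀ i, x i ∈ maximalIdeal A)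
    (hrad : maximalIdeal A ≤ (Ideal.span (Set.range x)).radical) :
    ∃ g : MvPowerSeries (Fin n) k →ₐ[k] A, (∀ i, g (MvPowerSeries.X i) = x i) ∧
      g.toRingHom.Finite := by
  obtain ⟨g, hg⟩ := Groth.Agent.H24.PowerSeries.exists_hom (A := k) (maximalIdeal A) x hx
  refine ⟨g, hg, ?_⟩
  letI : Algebra (MvPowerSeries (Fin n) k) A := g.toRingHom.toAlgebra
  haveI : IsScalarTower k (MvPowerSeries (Fin n) k) A :=
    IsScalarTower.of_algebraMap_eq fun l => (g.commutes l).symm
  let J := maximalIdeal (MvPowerSeries (Fin n) k)
  have hJ : J.map g.toRingHom = Ideal.span (Set.range x) := by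
    rw [show J = _ from H24.PowerSeries.maximalIdeal_eq k (Fin n), Ideal.map_span, ← Set.range_comp]
    congr 2
    exact funext hg
  haveI : IsAdicComplete J (MvPowerSeries (Fin n) k) := H24.PowerSeries.isAdicComplete k (Fin n)
  haveI : IsHausdorff J A := IsHausdorff.of_map (J := maximalIdeal A) (by
    rw [RingHom.algebraMap_toAlgebra, hJ]
    exact Ideal.span_le.2 (Set.range_subset_iff.2 hx))
  refine Groth.Agent.Lib.Adic.Complete.finite_of_finite_quotient (I := J) ?_
  obtain ⟨N, hN⟩ := Ideal.exists_pow_le_of_le_radical_of_fg hrad (IsNoetherian.noetherian _)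
  haveI := finite_quotient_pow (k := k) (A := A) N
  haveI : Module.Finite k (A ⧸ Ideal.span (Set.range x)) :=
    Module.Finite.of_surjective (Ideal.Quotient.factorₐ k hN).toLinearMap (fun y => by
      obtain ⟨z, rfl⟩ := Ideal.Quotient.mk_surjective y
      exact ⟨Ideal.Quotient.mk _ z, rfl⟩)
  haveI : Module.Finite (MvPowerSeries (Fin n) k) (A ⧸ Ideal.span (Set.range x)) :=
    Module.Finite.of_restrictScalars_finite k _ _
  have e : (J • ⊤ : Submodule (MvPowerSeries (Fin n) k) A) =
      Submodule.restrictScalars (MvPowerSeries (Fin n) k) (Ideal.span (Set.range x)) := by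
    rw [Ideal.smul_top_eq_map, RingHom.algebraMap_toAlgebra, hJ]
  exact Module.Finite.equiv ((Submodule.quotEquivOfEq _ _ e).trans
    (Submodule.Quotient.restrictScalarsEquiv _ (Ideal.span (Set.range x)))).symm

omit [IsAdicComplete (maximalIdeal A) A] [Module.Finite k (ResidueField A)] in
/-- A derivation of a power series ring into a finite module is determined by the variables. -/
theorem derivation_eq_zero {n : ℕ} [Algebra (MvPowerSeries (Fin n) k) A]
    [IsScalarTower k (MvPowerSeries (Fin n) k) A]
    (hloc : (maximalIdeal (MvPowerSeries (Fin n) k)).map (algebraMap _ A) ≤ maximalIdeal A)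
    {N : Type u} [AddCommGroup N] [Module A N] [Module k N] [IsScalarTower k A N] [Module.Finite A N]
    (δ : Derivation k A N) (h : ∀ i, δ (algebraMap _ A (MvPowerSeries.X i : MvPowerSeries (Fin n) k)) = 0)
    (f : MvPowerSeries (Fin n) k) : δ (algebraMap _ A f) = 0 := by
  let P := MvPowerSeries (Fin n) k
  let J := maximalIdeal P
  have hJ : J = Ideal.span (Set.range (MvPowerSeries.X : Fin n → P)) :=
    H24.PowerSeries.maximalIdeal_eq k (Fin n)
  have hcst : ∀ y : P, y - algebraMap k P (MvPowerSeries.constantCoeff y) ∈ J := fun y => by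
    rw [IsLocalRing.mem_maximalIdeal, mem_nonunits_iff, MvPowerSeries.isUnit_iff_constantCoeff]
    simp [P, MvPowerSeries.algebraMap_apply]
  have key : ∀ m (g : P), δ (algebraMap P A g) ∈ (maximalIdeal A ^ m • ⊤ : Submodule A N) := by
    intro m
    induction m with
    | zero => intro g; rw [pow_zero, Ideal.one_eq_top, Submodule.top_smul]; trivial
    | succ m ih =>
      intro g
      have hg : g - algebraMap k P (MvPowerSeries.constantCoeff g) ∈
          Ideal.span (Set.range (MvPowerSeries.X : Fin n → P)) := hJ ▸ hcst g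
      obtain ⟨c, hc⟩ := Ideal.mem_span_range_iff_exists_fun.1 hg
      have e : δ (algebraMap P A g) =
          ∑ i, algebraMap P A (MvPowerSeries.X i) • δ (algebraMap P A (c i)) := by
        have h0 : δ (algebraMap P A g) =
            δ (algebraMap P A (g - algebraMap k P (MvPowerSeries.constantCoeff g))) := by
          rw [map_sub, map_sub, ← IsScalarTower.algebraMap_apply, Derivation.map_algebraMap, sub_zero]
        rw [h0, ← hc, map_sum, map_sum]
        refine Finset.sum_congr rfl fun i _ => ?_
        rw [map_mul, Derivation.leibniz, h, smul_zero, zero_add]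
      rw [e]
      refine Submodule.sum_mem _ fun i _ => ?_
      rw [pow_succ', mul_smul]
      exact Submodule.smul_mem_smul (hloc (Ideal.mem_map_of_mem _ (H24.PowerSeries.X_mem k i))) (ih _)
  exact IsHausdorff.haus (I := maximalIdeal A)
    (IsHausdorff.of_le_jacobson (maximalIdeal A) N (IsLocalRing.maximalIdeal_le_jacobson ⊥)) _
      fun m => SModEq.zero.2 (key m f)

end PowerSeries

end Groth.Agent.H2.Omega.Tools
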