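import Groth.Agent.H2.Omega.Conormal

/-!
# Geometrically regular points have free completed differentials
-/

set_option autoImplicit false
set_option linter.style.haveILetI false
set_option linter.unusedSectionVars false

universe u

open IsLocalRing TensorProduct Groth.Agent.H2.Rigid

namespace Groth.Agent.H2.Omega.GeomFree

variable {k A : Type u} [Field k] [CommRing A] [IsLocalRing A] [IsNoetherianRing A] [Algebra k A]
  [IsAdicComplete (maximalIdeal A) A] [Module.Finite k (ResidueField A)]

theorem eq_zero_of_mem (P q : Ideal A) [P.IsPrime] [IsDomain (Localization.AtPrime P)]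
    (hqP : q ≤ P) (hqm : q ∈ minimalPrimes A) (a : A) (ha : a ∈ q) :
    algebraMap A (Localization.AtPrime P) a = 0 := by
  haveI : q.IsPrime := hqm.1.1
  let R := Localization.AtPrime P
  have hdisj : Disjoint (P.primeCompl : Set A) q := Set.disjoint_left.2 fun x hx hxq => hx (hqP hxq)
  have hc : (q.map (algebraMap A R)).comap (algebraMap A R) = q :=
    IsLocalization.under_map_of_isPrime_disjoint P.primeCompl R ‹_› hdisj
  have hle : (⊥ : Ideal R).comap (algebraMap A R) ≤ q :=
    (Ideal.comap_mono (bot_le (a := q.map (algebraMap A R)))).trans hc.le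
  haveI := Ideal.isPrime_bot (α := R)
  have hbot := le_antisymm hle (hqm.2 ⟨Ideal.IsPrime.comap _, bot_le⟩ hle)
  exact (hbot.ge ha : algebraMap A R a ∈ (⊥ : Ideal R))

theorem exists_nat_dim_quotient (P : Ideal A) [P.IsPrime] : ∃ d : ℕ, ringKrullDim (A ⧸ P) = d := by
  haveI : Nontrivial (A ⧸ P) := Ideal.Quotient.nontrivial_iff.2 (Ideal.IsPrime.ne_top ‹_›)
  haveI : IsLocalRing (A ⧸ P) := IsLocalRing.of_surjective' (Ideal.Quotient.mk P) Ideal.Quotient.mk_surjective
  exact Unram.exists_dim (A := A ⧸ P)

theorem rank_le (p : ℕ) [ExpChar k p] (hk : (frobenius k p).Finite)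
    (P : Ideal A) [P.IsPrime] (hP : CAlg.IsGeometricallyRegular k (Localization.AtPrime P))
    {h d : ℕ} (hh : ringKrullDim (Localization.AtPrime P) = h) (hd : ringKrullDim (A ⧸ P) = d) :
    Module.finrank P.ResidueField (P.ResidueField ⊗[A] Basic.Om k A) ≤ h + d := by
  rcases ‹ExpChar k p› with _ | hprime
  · haveI : IsRegularLocalRing (Localization.AtPrime P) := Free.isRegularLocalRing_of_geomReg hP
    refine Conormal.finrank_le P ?_ fun hl hc hf => (Conormal.generic_rank_charZero hd).le
    exact_mod_cast ((IsRegularLocalRing.spanFinrank_maximalIdeal (R := Localization.AtPrime P)).trans hh).le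
  · haveI := Fact.mk hprime
    exact RankP.rank_le_charP p hk P hP hh hd

theorem free_of_geomReg (p : ℕ) [ExpChar k p] (hk : (frobenius k p).Finite)
    (P : Ideal A) [P.IsPrime] (hP : CAlg.IsGeometricallyRegular k (Localization.AtPrime P))
    (q : Ideal A) (hqm : q ∈ minimalPrimes A) (hqP : q ≤ P) {n : ℕ} (hn : ringKrullDim (A ⧸ q) = n) :
    Module.Free (Localization.AtPrime P) (LocalizedModule P.primeCompl (Basic.Om k A)) ∧
      Module.finrank (Localization.AtPrime P) (LocalizedModule P.primeCompl (Basic.Om k A)) = n := by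
  haveI : q.IsPrime := hqm.1.1
  haveI := Basic.finite k A
  haveI : IsRegularLocalRing (Localization.AtPrime P) := Free.isRegularLocalRing_of_geomReg hP
  haveI := Lib.Regular.Quotient.isDomain (Localization.AtPrime P)
  haveI : IsNoetherianRing (Localization.AtPrime P) := IsLocalization.isNoetherianRing P.primeCompl _ inferInstance
  obtain ⟨h, hh⟩ := Unram.exists_dim (A := Localization.AtPrime P)
  obtain ⟨d, hd⟩ := exists_nat_dim_quotient P
  have hsum := RankP.dim_add_dim_le P q hqP (eq_zero_of_mem P q hqP hqm)
  rw [hh, hd, hn] at hsum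
  have hsum' : h + d ≤ n := by exact_mod_cast hsum
  have hle := (rank_le p hk P hP hh hd).trans hsum'
  have hge := Lower.le_finrank k A P q hqP hn
  obtain ⟨s, hs⟩ := Tools.exists_genAt (M := Basic.Om k A) P
  have e := le_antisymm hle hge
  refine Free.basis_of_genAt P (fun i => s (Fin.cast e.symm i)) ?_ q hqP hqm hn
  convert hs using 1
  exact (Fin.castOrderIso e.symm).surjective.range_comp s

end Groth.Agent.H2.Omega.GeomFree
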