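import Groth.Agent.H2.Omega.Free

/-!
# Reduction to the components through a prime
-/

set_option autoImplicit false
set_option linter.style.haveILetI false
set_option linter.unusedSectionVars false

universe u

open IsLocalRing TensorProduct

namespace Groth.Agent.H2.Omega.Reduce

variable {k A : Type u} [Field k] [CommRing A] [IsLocalRing A] [IsNoetherianRing A] [Algebra k A]
  [IsAdicComplete (maximalIdeal A) A] [Module.Finite k (ResidueField A)] (p : Ideal A) [p.IsPrime]

/-- The ideal cutting out the components through `p`. -/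
noncomputable abbrev J : Ideal A := RingHom.ker (algebraMap A (Localization.AtPrime p))

theorem J_le : J p ≤ p := fun x hx => by
  obtain ⟨⟨t, ht⟩, htx⟩ := (IsLocalization.map_eq_zero_iff p.primeCompl _ x).1 hx
  exact (Ideal.IsPrime.mem_or_mem ‹_› (show t * x ∈ p by rw [htx]; exact zero_mem _)).resolve_left ht

theorem exists_kill (x : A) (hx : x ∈ J p) : ∃ t ∉ p, t * x = 0 := by
  obtain ⟨⟨t, ht⟩, htx⟩ := (IsLocalization.map_eq_zero_iff p.primeCompl _ x).1 hx
  exact ⟨t, ht, htx⟩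

theorem J_le_of_minimal (q : Ideal A) [q.IsPrime] (hqp : q ≤ p) : J p ≤ q := fun x hx => by
  obtain ⟨t, ht, htx⟩ := exists_kill p x hx
  exact (Ideal.IsPrime.mem_or_mem ‹_› (show t * x ∈ q by rw [htx]; exact zero_mem _)).resolve_left
    fun h => ht (hqp h)

theorem exists_minimal_le (Q : Ideal A) [Q.IsPrime] (hQ : J p ≤ Q) :
    ∃ q ∈ minimalPrimes A, q ≤ p ∧ q ≤ Q := by
  classical
  by_contra hcon
  push Not at hcon
  have hfin : {q | q ∈ minimalPrimes A ∧ q ≤ p}.Finite :=
    (minimalPrimes.finite_of_isNoetherianRing A).subset fun q h => h.1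
  choose f hf hf' using fun q : {q // q ∈ hfin.toFinset} =>
    SetLike.not_le_iff_exists.1 (hcon q.1 ((hfin.mem_toFinset.1 q.2).1) (hfin.mem_toFinset.1 q.2).2)
  let s := ∏ q, f q
  have hs : s ∉ Q := fun h => by
    obtain ⟨q, -, hq⟩ := (Ideal.IsPrime.prod_mem_iff.1 h)
    exact hf' q hq
  have hnil : IsNilpotent (algebraMap A (Localization.AtPrime p) s) := by
    rw [← mem_nilradical, nilradical_eq_sInf, Ideal.mem_sInf]
    intro (P' : Ideal (Localization.AtPrime p)) hP'
    haveI : P'.IsPrime := hP'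
    obtain ⟨q, hq, hqle⟩ := Ideal.exists_minimalPrimes_le (I := (⊥ : Ideal A))
      (J := P'.comap (algebraMap A (Localization.AtPrime p))) bot_le
    have hqp : q ≤ p := hqle.trans ((Ideal.comap_mono (IsLocalRing.le_maximalIdeal (Ideal.IsPrime.ne_top hP'))).trans
      Localization.AtPrime.comap_maximalIdeal.le)
    have : s ∈ q := by
      obtain ⟨c, hc⟩ := Finset.dvd_prod_of_mem f (Finset.mem_univ ⟨q, hfin.mem_toFinset.2 ⟨hq, hqp⟩⟩)
      rw [show s = _ from hc]
      exact Ideal.mul_mem_right _ _ (hf ⟨q, hfin.mem_toFinset.2 ⟨hq, hqp⟩⟩)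
    exact hqle this
  obtain ⟨j, hj⟩ := hnil
  rw [← map_pow] at hj
  exact hs (Ideal.IsPrime.mem_of_pow_mem ‹_› j (hQ hj))

theorem quotient_props (I : Ideal A) (hI : I ≠ ⊤) :
    ∃ (_ : IsLocalRing (A ⧸ I)), IsAdicComplete (maximalIdeal (A ⧸ I)) (A ⧸ I) ∧
      Module.Finite k (ResidueField (A ⧸ I)) := by
  haveI : Nontrivial (A ⧸ I) := Ideal.Quotient.nontrivial_iff.2 hI
  haveI hl : IsLocalRing (A ⧸ I) := IsLocalRing.of_surjective' (Ideal.Quotient.mk I) Ideal.Quotient.mk_surjective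
  haveI : IsLocalHom (Ideal.Quotient.mk I) := IsLocalHom.of_surjective _ Ideal.Quotient.mk_surjective
  have hm : (maximalIdeal A).map (algebraMap A (A ⧸ I)) = maximalIdeal (A ⧸ I) := by
    rw [Ideal.Quotient.algebraMap_eq, ← IsLocalRing.maximalIdeal_comap (Ideal.Quotient.mk I),
      Ideal.map_comap_of_surjective _ Ideal.Quotient.mk_surjective]
  haveI : IsAdicComplete (maximalIdeal A) (A ⧸ I) := Lib.Adic.Complete.isAdicComplete_of_finite
  refine ⟨hl, hm ▸ (IsAdicComplete.map_algebraMap_iff _ _).2 ‹_›, ?_⟩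
  let ρ : ResidueField A →ₐ[k] ResidueField (A ⧸ I) :=
    { IsLocalRing.ResidueField.map (Ideal.Quotient.mk I) with
      commutes' := fun r => rfl }
  exact Module.Finite.of_surjective ρ.toLinearMap (fun z => by
    obtain ⟨y, rfl⟩ := IsLocalRing.residue_surjective z
    obtain ⟨a, rfl⟩ := Ideal.Quotient.mk_surjective y
    exact ⟨residue A a, rfl⟩)

/-- The hypotheses of the full dimensional case hold for `A ⧸ J`. -/
theorem exists_reduction (hp : p ≠ maximalIdeal A) {n : ℕ}
    (hn₁ : ∀ q ∈ minimalPrimes A, q ≤ p → ringKrullDim (A ⧸ q) ≤ n)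
    (hn₂ : ∃ q ∈ minimalPrimes A, q ≤ p ∧ ringKrullDim (A ⧸ q) = n)
    [IsLocalRing (A ⧸ J p)] (pb : Ideal (A ⧸ J p)) (hpb : pb = p.map (Ideal.Quotient.mk (J p))) :
    pb ≠ maximalIdeal (A ⧸ J p) ∧ ringKrullDim (A ⧸ J p) = n ∧
      ∃ qb ∈ minimalPrimes (A ⧸ J p), qb ≤ pb ∧ ringKrullDim ((A ⧸ J p) ⧸ qb) = n := by
  subst hpb
  have hcomap : (p.map (Ideal.Quotient.mk (J p))).comap (Ideal.Quotient.mk (J p)) = p := by
    rw [Ideal.comap_map_of_surjective _ Ideal.Quotient.mk_surjective, ← RingHom.ker_eq_comap_bot,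
      Ideal.mk_ker, sup_eq_left.2 (J_le p)]
  haveI : IsLocalHom (Ideal.Quotient.mk (J p)) := IsLocalHom.of_surjective _ Ideal.Quotient.mk_surjective
  refine ⟨fun h => hp ?_, ?_, ?_⟩
  · rw [← hcomap, h, IsLocalRing.maximalIdeal_comap]
  · obtain ⟨q, hqm, hqp, hq⟩ := hn₂
    haveI : q.IsPrime := hqm.1.1
    refine le_antisymm ?_ (hq.ge.trans (ringKrullDim_le_of_surjective
      (Ideal.Quotient.factor (J_le_of_minimal p q hqp)) (Ideal.Quotient.factor_surjective _)))
    rw [ringKrullDim_quotient, Order.krullDim]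
    refine iSup_le fun l => ?_
    obtain ⟨q', hq', hq'p, hq'Q⟩ := exists_minimal_le p (RelSeries.head l).1.asIdeal (RelSeries.head l).2
    refine le_trans ?_ (hn₁ q' hq' hq'p)
    rw [ringKrullDim_quotient]
    let l' : LTSeries (PrimeSpectrum.zeroLocus (R := A) (q' : Set A)) :=
      { length := l.length
        toFun := fun i => ⟨(l i).1, hq'Q.trans (LTSeries.monotone l (Fin.zero_le i))⟩
        step := fun i => l.step i }
    exact le_iSup (fun p : LTSeries (PrimeSpectrum.zeroLocus (R := A) (q' : Set A)) =>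
      (p.length : WithBot ℕ∞)) l'
  · obtain ⟨q, hqm, hqp, hq⟩ := hn₂
    haveI : q.IsPrime := hqm.1.1
    have hJq := J_le_of_minimal p q hqp
    have hqc : (q.map (Ideal.Quotient.mk (J p))).comap (Ideal.Quotient.mk (J p)) = q := by
      rw [Ideal.comap_map_of_surjective _ Ideal.Quotient.mk_surjective, ← RingHom.ker_eq_comap_bot,
        Ideal.mk_ker, sup_eq_left.2 hJq]
    haveI hqb : (q.map (Ideal.Quotient.mk (J p))).IsPrime :=
      Ideal.map_isPrime_of_surjective Ideal.Quotient.mk_surjective (by rw [Ideal.mk_ker]; exact hJq)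
    refine ⟨q.map (Ideal.Quotient.mk (J p)), ⟨⟨hqb, bot_le⟩, fun Q hQ hle => ?_⟩, Ideal.map_mono hqp, ?_⟩
    · haveI := hQ.1
      have h1 : Q.comap (Ideal.Quotient.mk (J p)) ≤ q := hqc ▸ Ideal.comap_mono hle
      have h2 := hqm.2 ⟨inferInstance, bot_le⟩ h1
      exact (Ideal.map_mono h2).trans (Ideal.map_comap_of_surjective _ Ideal.Quotient.mk_surjective Q).le
    · rw [ringKrullDim_eq_of_ringEquiv (DoubleQuot.quotQuotEquivQuotOfLE hJq), hq]

variable (I : Ideal A) [IsLocalRing (A ⧸ I)] [IsAdicComplete (maximalIdeal (A ⧸ I)) (A ⧸ I)]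
  [Module.Finite k (ResidueField (A ⧸ I))]

/-- The fibre rank does not grow in a quotient. -/
theorem finrank_quotient_le (hI : I ≤ p) (pb : Ideal (A ⧸ I)) [pb.IsPrime]
    (hpb : pb.comap (Ideal.Quotient.mk I) = p) :
    Module.finrank pb.ResidueField (pb.ResidueField ⊗[A ⧸ I] Basic.Om k (A ⧸ I)) ≤
      Module.finrank p.ResidueField (p.ResidueField ⊗[A] Basic.Om k A) := by
  let C := A ⧸ I
  haveI := Basic.finite k A
  haveI := Basic.finite k C
  haveI : Module.Finite A (Basic.Om k C) := Module.Finite.trans C _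
  obtain ⟨f, hf⟩ := Basic.exists_lift k A (N := Basic.Om k C)
    (((AdicCompletion.of (maximalIdeal C) (KaehlerDifferential k C)).restrictScalars C).compDer
      (KaehlerDifferential.D k C) |>.compAlgebraMap A)
  have hsurj : Function.Surjective f := by
    intro z
    have hz : z ∈ Submodule.span C (Set.range (Basic.dh k C)) := by rw [Basic.span_range_dh]; trivial
    induction hz using Submodule.span_induction with
    | mem w hw =>
      obtain ⟨c, rfl⟩ := hw
      obtain ⟨a, rfl⟩ := Ideal.Quotient.mk_surjective c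
      exact ⟨Basic.dh k A a, hf a⟩
    | zero => exact ⟨0, map_zero f⟩
    | add x y _ _ hx hy =>
      obtain ⟨a, rfl⟩ := hx; obtain ⟨b, rfl⟩ := hy; exact ⟨a + b, map_add f a b⟩
    | smul c x _ hx =>
      obtain ⟨a, rfl⟩ := Ideal.Quotient.mk_surjective c
      obtain ⟨b, rfl⟩ := hx
      exact ⟨a • b, by rw [map_smul, ← Ideal.Quotient.algebraMap_eq, algebraMap_smul]⟩
  obtain ⟨s, hs⟩ := Tools.exists_genAt (M := Basic.Om k A) p
  refine Tools.finrank_le_of_genAt pb (f ∘ s) fun z => ?_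
  obtain ⟨y, rfl⟩ := hsurj z
  obtain ⟨t, ht, hty⟩ := hs y
  refine ⟨Ideal.Quotient.mk I t, fun h => ht (by rw [← hpb]; exact h), ?_⟩
  rw [← Ideal.Quotient.algebraMap_eq, algebraMap_smul, ← map_smul]
  have : f (t • y) ∈ (Submodule.span C (Set.range (f ∘ s))).restrictScalars A := by
    refine (Submodule.span_le.2 ?_ : Submodule.span A (Set.range s) ≤
      ((Submodule.span C (Set.range (f ∘ s))).restrictScalars A).comap f) hty
    rintro _ ⟨i, rfl⟩
    exact Submodule.subset_span ⟨i, rfl⟩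
  exact this

end Groth.Agent.H2.Omega.Reduce
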