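import Groth.Agent.H2.Omega.Choose
import Mathlib.RingTheory.Unramified.Locus
import Mathlib.RingTheory.Kaehler.Basic

/-!
# Finite maps from power series rings, unramified at a prime
-/

set_option autoImplicit false
set_option linter.style.haveILetI false
set_option linter.unusedSectionVars false

universe u

open IsLocalRing TensorProduct

namespace Groth.Agent.H2.Omega.Unram

variable {k A : Type u} [Field k] [CommRing A] [Algebra k A] [IsLocalRing A] [IsNoetherianRing A]
  [IsAdicComplete (maximalIdeal A) A] [Module.Finite k (ResidueField A)] (p : Ideal A) [p.IsPrime]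

omit [IsNoetherianRing A] [IsAdicComplete (maximalIdeal A) A] in
theorem unramifiedAt_iff (P : Type u) [CommRing P] [Algebra P A] :
    Algebra.IsUnramifiedAt P p ↔ ∀ w : Ω[A⁄P], ∃ t ∉ p, t • w = 0 := by
  change (⟨p, ‹_›⟩ : PrimeSpectrum A) ∈ Algebra.unramifiedLocus P A ↔ _
  rw [Algebra.unramifiedLocus_eq_compl_support, Set.mem_compl_iff, Module.notMem_support_iff']

theorem isLocalHom {m : ℕ} [Algebra (MvPowerSeries (Fin m) k) A]
    (hx : ∀ i, algebraMap (MvPowerSeries (Fin m) k) A (MvPowerSeries.X i) ∈ maximalIdeal A) :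
    IsLocalHom (algebraMap (MvPowerSeries (Fin m) k) A) := by
  refine ((IsLocalRing.local_hom_TFAE _).out 0 2).2 ?_
  rw [H24.PowerSeries.maximalIdeal_eq k (Fin m), Ideal.map_span, Ideal.span_le]
  rintro _ ⟨_, ⟨i, rfl⟩, rfl⟩
  exact hx i

/-- The differentials of the parameters of a map unramified at `p` generate at `p`. -/
theorem genAt_of_unramified {m : ℕ} [Algebra (MvPowerSeries (Fin m) k) A]
    [IsScalarTower k (MvPowerSeries (Fin m) k) A] [IsLocalHom (algebraMap (MvPowerSeries (Fin m) k) A)]
    [Algebra.IsUnramifiedAt (MvPowerSeries (Fin m) k) p] :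
    Tools.GenAt p (Set.range fun i : Fin m =>
      Basic.dh k A (algebraMap (MvPowerSeries (Fin m) k) A (MvPowerSeries.X i))) := by
  let P := MvPowerSeries (Fin m) k
  let S := Set.range fun i : Fin m => Basic.dh k A (algebraMap P A (MvPowerSeries.X i))
  let N := Submodule.span A S
  haveI := Basic.finite k A
  let δ : Derivation k A (Basic.Om k A ⧸ N) :=
    N.mkQ.compDer (((AdicCompletion.of (maximalIdeal A) (KaehlerDifferential k A)).restrictScalars A).compDer
      (KaehlerDifferential.D k A))
  have hδ : ∀ a, δ a = N.mkQ (Basic.dh k A a) := fun a => rfl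
  have hloc : (maximalIdeal P).map (algebraMap P A) ≤ maximalIdeal A :=
    ((IsLocalRing.local_hom_TFAE (algebraMap P A)).out 0 2).1 ‹_›
  have h0 : ∀ f : P, δ (algebraMap P A f) = 0 :=
    Tools.derivation_eq_zero hloc δ fun i => by
      rw [hδ, Submodule.mkQ_apply, Submodule.Quotient.mk_eq_zero]
      exact Submodule.subset_span ⟨i, rfl⟩
  let δP : Derivation P A (Basic.Om k A ⧸ N) :=
    { toFun := δ
      map_add' := δ.map_add
      map_smul' := fun f a => by
        rw [Algebra.smul_def, Derivation.leibniz, h0, smul_zero, add_zero, RingHom.id_apply]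
        exact algebraMap_smul A f (δ a)
      map_one_eq_zero' := δ.map_one_eq_zero
      leibniz' := δ.leibniz }
  intro y
  have hy : N.mkQ y ∈ LinearMap.range δP.liftKaehlerDifferential := by
    have : ∀ z : Basic.Om k A, N.mkQ z ∈ LinearMap.range δP.liftKaehlerDifferential := fun z => by
      have hz : z ∈ Submodule.span A (Set.range (Basic.dh k A)) := by rw [Basic.span_range_dh]; trivial
      induction hz using Submodule.span_induction with
      | mem x hx =>
        obtain ⟨a, rfl⟩ := hx
        exact ⟨KaehlerDifferential.D P A a, Derivation.liftKaehlerDifferential_comp_D δP a⟩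
      | zero => rw [map_zero]; exact zero_mem _
      | add x y _ _ hx hy => rw [map_add]; exact add_mem hx hy
      | smul a x _ hx => rw [map_smul]; exact Submodule.smul_mem _ a hx
    exact this y
  obtain ⟨w, hw⟩ := hy
  obtain ⟨t, ht, htw⟩ := (unramifiedAt_iff p P).1 ‹_› w
  refine ⟨t, ht, (Submodule.Quotient.mk_eq_zero N).1 ?_⟩
  rw [← Submodule.mkQ_apply, map_smul, ← hw, ← map_smul, htw, map_zero]

/-- A finite map from power series, unramified at `p`, made of given parameters. -/
theorem exists_unramified {m : ℕ} (x : Fin m → A) (hx : ∀ i, x i ∈ maximalIdeal A)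
    (hrad : maximalIdeal A ≤ (Ideal.span (Set.range x)).radical)
    (hgen : Tools.GenAt p (Set.range fun i => Basic.dh k A (x i))) :
    ∃ (_ : Algebra (MvPowerSeries (Fin m) k) A) (_ : IsScalarTower k (MvPowerSeries (Fin m) k) A),
      IsLocalHom (algebraMap (MvPowerSeries (Fin m) k) A) ∧ Module.Finite (MvPowerSeries (Fin m) k) A ∧
        Algebra.IsUnramifiedAt (MvPowerSeries (Fin m) k) p := by
  obtain ⟨g, hg, hfin⟩ := Tools.exists_finite_algHom (k := k) x hx hrad
  let P := MvPowerSeries (Fin m) k
  letI algP : Algebra P A := g.toRingHom.toAlgebra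
  haveI tow : IsScalarTower k P A := .of_algebraMap_eq fun l => (g.commutes l).symm
  haveI hf : Module.Finite P A := hfin
  refine ⟨algP, tow, isLocalHom fun i => by rw [show algebraMap P A _ = g _ from rfl, hg]; exact hx i,
    hf, (unramifiedAt_iff p P).2 fun w => ?_⟩
  obtain ⟨f, hf'⟩ := Basic.exists_lift k A ((KaehlerDifferential.D P A).restrictScalars k)
  have hw : w ∈ LinearMap.range f := by
    have hw : w ∈ Submodule.span A (Set.range (KaehlerDifferential.D P A)) := by
      rw [KaehlerDifferential.span_range_derivation]; trivial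
    induction hw using Submodule.span_induction with
    | mem z hz => obtain ⟨a, rfl⟩ := hz; exact ⟨_, hf' a⟩
    | zero => exact zero_mem _
    | add x y _ _ hx hy => exact add_mem hx hy
    | smul a x _ hx => exact Submodule.smul_mem _ a hx
  obtain ⟨y, rfl⟩ := hw
  obtain ⟨t, ht, hty⟩ := hgen y
  refine ⟨t, ht, ?_⟩
  suffices h : Submodule.span A (Set.range fun i => Basic.dh k A (x i)) ≤ LinearMap.ker f from
    (map_smul f t y).symm.trans (LinearMap.mem_ker.1 (h hty))
  refine Submodule.span_le.2 ?_
  rintro _ ⟨i, rfl⟩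
  rw [SetLike.mem_coe, LinearMap.mem_ker, hf', ← hg i]
  exact (KaehlerDifferential.D P A).map_algebraMap (MvPowerSeries.X i : P)

omit [Module.Finite k (ResidueField A)] [IsAdicComplete (maximalIdeal A) A] [Algebra k A] in
theorem exists_dim : ∃ d : ℕ, ringKrullDim A = d := by
  obtain ⟨d, hd⟩ := ENat.ne_top_iff_exists.1 (Ideal.height_ne_top
    (IsLocalRing.maximalIdeal.isMaximal A).ne_top)
  exact ⟨d, by rw [← IsLocalRing.maximalIdeal_height_eq_ringKrullDim, ← hd]; rfl⟩

/-- The criterion, with the rank of the fibre. -/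
theorem exists_iff (hp : p ≠ maximalIdeal A)
    (hq : ∃ q ∈ minimalPrimes A, q ≤ p ∧ ringKrullDim (A ⧸ q) = ringKrullDim A) (m : ℕ) :
    (∃ (_ : Algebra (MvPowerSeries (Fin m) k) A) (_ : IsScalarTower k (MvPowerSeries (Fin m) k) A),
      IsLocalHom (algebraMap (MvPowerSeries (Fin m) k) A) ∧ Module.Finite (MvPowerSeries (Fin m) k) A ∧
        Algebra.IsUnramifiedAt (MvPowerSeries (Fin m) k) p) ↔
    Module.finrank p.ResidueField (p.ResidueField ⊗[A] Basic.Om k A) ≤ m := by
  haveI := Basic.finite k A
  constructor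
  · rintro ⟨_, _, _, _, _⟩
    exact Tools.finrank_le_of_genAt p _ (genAt_of_unramified p)
  · intro h
    obtain ⟨q, hqm, hqp, hd⟩ := hq
    haveI : q.IsPrime := hqm.1.1
    obtain ⟨d, hdA⟩ := exists_dim (A := A)
    have hdm : d ≤ m := (Lower.le_finrank k A p q hqp (hd.trans hdA)).trans h
    obtain ⟨x, hx, hrad, hgen⟩ := Choose.exists_params p hp h (hdA.trans_le (by exact_mod_cast hdm))
    exact exists_unramified p x hx hrad hgen

end Groth.Agent.H2.Omega.Unram
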