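import Groth.Agent.H2.Omega.Lower
import Mathlib.RingTheory.Ideal.MinimalPrime.Noetherian
import Mathlib.RingTheory.Unramified.Locus
import Mathlib.Algebra.CharP.Basic

/-!
# Parameters whose differentials generate at a non-maximal prime
-/

set_option autoImplicit false
set_option linter.style.haveILetI false

universe u

open IsLocalRing TensorProduct

namespace Groth.Agent.H2.Omega.Choose

variable {k A : Type u} [Field k] [CommRing A] [Algebra k A] [IsLocalRing A] [IsNoetherianRing A]
  [IsAdicComplete (maximalIdeal A) A] [Module.Finite k (ResidueField A)] (p : Ideal A) [p.IsPrime]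

/-- The differential in the fibre. -/
noncomputable def db (a : A) : p.ResidueField ⊗[A] Basic.Om k A := 1 ⊗ₜ[A] Basic.dh k A a

omit [IsNoetherianRing A] [IsAdicComplete (maximalIdeal A) A] [Module.Finite k (ResidueField A)] in
theorem db_mul (a b : A) : db (k := k) p (a * b) =
    algebraMap A p.ResidueField a • db (k := k) p b + algebraMap A p.ResidueField b • db (k := k) p a := by
  rw [db, Basic.dh_mul, TensorProduct.tmul_add, TensorProduct.tmul_smul, TensorProduct.tmul_smul,
    ← algebraMap_smul p.ResidueField a, ← algebraMap_smul p.ResidueField b]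
  rfl

omit [IsNoetherianRing A] [IsAdicComplete (maximalIdeal A) A] [Module.Finite k (ResidueField A)] in
theorem db_add (a b : A) : db (k := k) p (a + b) = db (k := k) p a + db (k := k) p b := by
  simp only [db, Basic.dh_add, TensorProduct.tmul_add]

omit [IsNoetherianRing A] [IsAdicComplete (maximalIdeal A) A] [Module.Finite k (ResidueField A)] in
theorem db_algebraMap (c : k) : db (k := k) p (algebraMap k A c) = 0 := by
  simp only [db, Basic.dh_algebraMap, TensorProduct.tmul_zero]

omit [IsNoetherianRing A] [IsAdicComplete (maximalIdeal A) A] [Module.Finite k (ResidueField A)] in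
theorem db_pow (z : A) : ∀ n : ℕ, db (k := k) p (z ^ n) =
    algebraMap A p.ResidueField ((n : A) * z ^ (n - 1)) • db (k := k) p z
  | 0 => by
    rw [pow_zero, Nat.cast_zero, zero_mul, map_zero, zero_smul, ← map_one (algebraMap k A), db_algebraMap]
  | n + 1 => by
    rw [pow_succ, db_mul, db_pow z n, smul_smul, ← map_mul, ← add_smul, ← map_add]
    congr 2
    rcases n with _ | n
    · simp
    · simp only [Nat.cast_add, Nat.cast_one, Nat.add_sub_cancel]
      ring

omit [p.IsPrime] [IsNoetherianRing A] [IsAdicComplete (maximalIdeal A) A] [Module.Finite k (ResidueField A)] in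
theorem exists_scalars [p.IsPrime] (hp : p ≠ maximalIdeal A) :
    ∃ c : ℕ → A, (∀ e, db (k := k) p (c e) = 0 ∧ algebraMap A p.ResidueField (c e) ≠ 0) ∧
      ∀ (Q : Ideal A), Q.IsPrime → ∀ e e', e ≠ e' → c e - c e' ∈ Q → ∀ e'', c e'' ∈ Q := by
  by_cases hk : Infinite k
  · let ι : ℕ ↪ {x : k // x ≠ 0} :=
      haveI := hk
      haveI : Infinite {x : k // x ≠ 0} := Set.infinite_coe_iff.2 (Set.Finite.infinite_compl (Set.finite_singleton 0))
      Infinite.natEmbedding _
    refine ⟨fun e => algebraMap k A (ι e).1, fun e => ⟨db_algebraMap p _, ?_⟩, fun Q hQ e e' hne h => ?_⟩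
    · rw [← IsScalarTower.algebraMap_apply]
      exact (map_ne_zero _).2 (ι e).2
    · refine absurd (Ideal.eq_top_of_isUnit_mem Q h ?_) hQ.ne_top
      rw [← map_sub]
      exact (IsUnit.mk0 _ (sub_ne_zero.2 fun heq => hne (ι.injective (Subtype.ext heq)))).map _
  · haveI : Finite k := not_infinite_iff_finite.1 hk
    haveI : Fintype k := Fintype.ofFinite k
    obtain ⟨q, hq⟩ := CharP.exists k
    have hqA : ((q : ℕ) : A) = 0 := by
      rw [← map_natCast (algebraMap k A), CharP.cast_eq_zero k q, map_zero]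
    have hq0 : q ≠ 0 := fun h0 => by
      subst h0
      haveI := CharP.charP_to_charZero k
      exact hk (Infinite.of_injective (Nat.cast : ℕ → k) Nat.cast_injective)
    obtain ⟨z, hzm, hzp⟩ := SetLike.exists_of_lt (lt_of_le_of_ne
      (IsLocalRing.le_maximalIdeal (Ideal.IsPrime.ne_top ‹_›)) hp)
    refine ⟨fun e => z ^ (q * (e + 1)), fun e => ⟨?_, ?_⟩, fun Q hQ e e' hne h e'' => ?_⟩
    · rw [db_pow, Nat.cast_mul, hqA, zero_mul, zero_mul, map_zero, zero_smul]
    · simp only [ne_eq, Ideal.algebraMap_residueField_eq_zero]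
      exact fun h => hzp (Ideal.IsPrime.mem_of_pow_mem ‹_› _ h)
    · suffices hz : z ∈ Q by exact Q.pow_mem_of_mem hz _ (Nat.mul_pos (Nat.pos_of_ne_zero hq0) (Nat.succ_pos _))
      have key : ∀ a b : ℕ, a < b → z ^ a - z ^ b ∈ Q → z ∈ Q := fun a b hab h => by
        have e1 : z ^ a - z ^ b = z ^ a * (1 - z ^ (b - a)) := by
          rw [mul_sub, mul_one, ← pow_add, Nat.add_sub_cancel' hab.le]
        rw [e1] at h
        rcases hQ.mem_or_mem h with h | h
        · exact hQ.mem_of_pow_mem _ h
        · exact absurd (Ideal.eq_top_of_isUnit_mem Q h (isUnit_one_sub_self_of_mem_nonunits _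
            ((IsLocalRing.mem_maximalIdeal _).1 (Ideal.pow_mem_of_mem _ hzm _ (Nat.sub_pos_of_lt hab))))) hQ.ne_top
      rcases lt_or_gt_of_ne (show q * (e + 1) ≠ q * (e' + 1) from fun h =>
        hne (Nat.succ_injective (Nat.eq_of_mul_eq_mul_left (Nat.pos_of_ne_zero hq0) h))) with hlt | hlt
      · exact key _ _ hlt h
      · exact key _ _ hlt (by rw [← neg_sub]; exact Q.neg_mem h)

theorem exists_elem (hp : p ≠ maximalIdeal A) (S : Set (Ideal A)) (hS : S.Finite)
    (hSp : ∀ Q ∈ S, Q.IsPrime ∧ Q ≠ maximalIdeal A)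
    (W : Submodule p.ResidueField (p.ResidueField ⊗[A] Basic.Om k A)) :
    ∃ x ∈ maximalIdeal A, (∀ Q ∈ S, x ∉ Q) ∧ (W = ⊤ ∨ db (k := k) p x ∉ W) := by
  classical
  obtain ⟨x₀, hx₀, hx₀S⟩ : ∃ x₀ ∈ maximalIdeal A, ∀ Q ∈ S, x₀ ∉ Q := by
    by_contra hcon
    push Not at hcon
    obtain ⟨Q, hQ, hle⟩ := (Ideal.subset_union_prime_finite hS (f := fun Q => Q) ⊤ ⊤
      (fun Q hQ _ _ => (hSp Q hQ).1)).1 (show (maximalIdeal A : Set A) ⊆ ⋃ Q ∈ S, (Q : Set A) from
        fun x hx => by
          obtain ⟨Q, hQ, hxQ⟩ := hcon x hx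
          exact Set.mem_biUnion hQ hxQ)
    exact (hSp Q hQ).2 (((IsLocalRing.maximalIdeal.isMaximal A).eq_of_le (hSp Q hQ).1.ne_top hle).symm)
  by_cases hW : W = ⊤
  · exact ⟨x₀, hx₀, hx₀S, Or.inl hW⟩
  by_cases hx₀W : db (k := k) p x₀ ∉ W
  · exact ⟨x₀, hx₀, hx₀S, Or.inr hx₀W⟩
  push Not at hx₀W
  obtain ⟨a, ha⟩ : ∃ a, db (k := k) p a ∉ W := by
    by_contra hcon
    push Not at hcon
    refine hW (Submodule.eq_top_iff'.2 fun z => ?_)
    induction z using TensorProduct.induction_on with
    | zero => exact zero_mem _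
    | add b c hb hc => exact add_mem hb hc
    | tmul c y =>
      have h1 : (1 : p.ResidueField) ⊗ₜ[A] y ∈ W := by
        have hy : y ∈ Submodule.span A (Set.range (Basic.dh k A)) := by rw [Basic.span_range_dh]; trivial
        induction hy using Submodule.span_induction with
        | mem w hw => obtain ⟨b, rfl⟩ := hw; exact hcon b
        | zero => rw [TensorProduct.tmul_zero]; exact zero_mem _
        | add b c _ _ hb hc => rw [TensorProduct.tmul_add]; exact add_mem hb hc
        | smul r w _ hw =>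
          rw [TensorProduct.tmul_smul, ← algebraMap_smul p.ResidueField r]
          exact W.smul_mem _ hw
      rw [show c ⊗ₜ[A] y = c • ((1 : p.ResidueField) ⊗ₜ[A] y) by
        rw [TensorProduct.smul_tmul', smul_eq_mul, mul_one]]
      exact W.smul_mem _ h1
  obtain ⟨z, hzm, hzp⟩ := SetLike.exists_of_lt (lt_of_le_of_ne
    (IsLocalRing.le_maximalIdeal (Ideal.IsPrime.ne_top ‹_›)) hp)
  obtain ⟨y, hym, hy⟩ : ∃ y ∈ maximalIdeal A, db (k := k) p y ∉ W := by
    by_contra hcon
    push Not at hcon
    have h1 := hcon (z * a) (Ideal.mul_mem_right _ _ hzm)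
    rw [db_mul, W.add_mem_iff_left (W.smul_mem _ (hcon z hzm)),
      W.smul_mem_iff (by simpa [Ideal.algebraMap_residueField_eq_zero] using hzp)] at h1
    exact ha h1
  obtain ⟨c, hc, hcQ⟩ := exists_scalars (k := k) p hp
  have hcand : ∀ e, db (k := k) p (x₀ + c e * y) ∉ W := fun e h => by
    rw [db_add, db_mul, (hc e).1, smul_zero, add_zero, W.add_mem_iff_right hx₀W,
      W.smul_mem_iff (hc e).2] at h
    exact hy h
  by_cases hgood : ∃ e, ∀ Q ∈ S, x₀ + c e * y ∉ Q
  · obtain ⟨e, he⟩ := hgood
    exact ⟨_, add_mem hx₀ (Ideal.mul_mem_left _ _ hym), he, Or.inr (hcand e)⟩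
  push Not at hgood
  choose Qe hQe hmem using hgood
  haveI := hS.to_subtype
  obtain ⟨e, e', hne, hee⟩ := Finite.exists_ne_map_eq_of_infinite (fun e => (⟨Qe e, hQe e⟩ : S))
  have hee' : Qe e = Qe e' := congrArg Subtype.val hee
  have h1 : (c e - c e') * y ∈ Qe e := by
    have := sub_mem (hmem e) (hee' ▸ hmem e' : x₀ + c e' * y ∈ Qe e)
    rwa [add_sub_add_left_eq_sub, ← sub_mul] at this
  have h2 : c e * y ∈ Qe e := by
    rcases (hSp _ (hQe e)).1.mem_or_mem h1 with h | h
    · exact Ideal.mul_mem_right _ _ (hcQ _ (hSp _ (hQe e)).1 e e' hne h e)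
    · exact Ideal.mul_mem_left _ _ h
  exact absurd (by simpa using sub_mem (hmem e) h2) (hx₀S _ (hQe e))

/-- Parameters with generating differentials. -/
theorem exists_params (hp : p ≠ maximalIdeal A) {n : ℕ}
    (hrank : Module.finrank p.ResidueField (p.ResidueField ⊗[A] Basic.Om k A) ≤ n)
    (hdim : ringKrullDim A ≤ n) :
    ∃ x : Fin n → A, (∀ i, x i ∈ maximalIdeal A) ∧
      maximalIdeal A ≤ (Ideal.span (Set.range x)).radical ∧
      Tools.GenAt p (Set.range fun i => Basic.dh k A (x i)) := by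
  classical
  haveI := Basic.finite k A
  let r := Module.finrank p.ResidueField (p.ResidueField ⊗[A] Basic.Om k A)
  have key : ∀ i ≤ n, ∃ x : Fin i → A, (∀ j, x j ∈ maximalIdeal A) ∧
      (∀ Q : PrimeSpectrum A, (∀ j, x j ∈ Q.asIdeal) → Order.coheight Q ≤ ((n - i : ℕ) : ℕ∞)) ∧
      min i r ≤ Module.finrank p.ResidueField
        (Submodule.span p.ResidueField (Set.range fun j => db (k := k) p (x j))) := by
    intro i
    induction i with
    | zero =>
      refine fun _ => ⟨Fin.elim0, fun j => j.elim0, fun Q _ => ?_, by simp⟩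
      rw [Nat.sub_zero]
      have := (Order.coheight_le_krullDim Q).trans hdim
      exact_mod_cast this
    | succ i ih =>
      intro hi
      obtain ⟨x, hx, hco, hrk⟩ := ih (by omega)
      let W := Submodule.span p.ResidueField (Set.range fun j => db (k := k) p (x j))
      obtain ⟨y, hym, hyS, hyW⟩ := exists_elem p hp
        {Q | Q ∈ (Ideal.span (Set.range x)).minimalPrimes ∧ Q ≠ maximalIdeal A}
        ((Ideal.finite_minimalPrimes_of_isNoetherianRing A _).subset fun Q h => h.1)
        (fun Q h => ⟨h.1.1.1, h.2⟩) W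
      refine ⟨Fin.snoc x y, Fin.lastCases (by simpa using hym) (fun j => by simpa using hx j), fun Q hQ => ?_, ?_⟩
      · obtain ⟨Q₀, hQ₀, hle⟩ := Ideal.exists_minimalPrimes_le (I := Ideal.span (Set.range x)) (J := Q.asIdeal)
          (Ideal.span_le.2 (by rintro _ ⟨j, rfl⟩; simpa using hQ j.castSucc))
        by_cases hQm : Q₀ = maximalIdeal A
        · have hQ' : IsMax Q := fun Q' hQQ' => by
            subst hQm
            exact (IsLocalRing.le_maximalIdeal Q'.2.ne_top).trans hle
          rw [Order.coheight_eq_zero.2 hQ']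
          exact zero_le
        · have hlt : (⟨Q₀, hQ₀.1.1⟩ : PrimeSpectrum A) < Q := lt_of_le_not_ge hle fun hge => by
            refine hyS Q₀ ⟨hQ₀, hQm⟩ (hge ?_)
            simpa using hQ (Fin.last i)
          have h1 := Order.coheight_add_one_le hlt
          have h2 := hco ⟨Q₀, hQ₀.1.1⟩ fun j => hQ₀.1.2 (Ideal.subset_span ⟨j, rfl⟩)
          have h3 : Order.coheight Q + 1 ≤ ((n - (i + 1) : ℕ) : ℕ∞) + 1 := by
            have e : n - i = n - (i + 1) + 1 := by omega
            rw [e, Nat.cast_add, Nat.cast_one] at h2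
            exact h1.trans h2
          exact WithTop.le_of_add_le_add_right ENat.one_ne_top h3
      · let W' := Submodule.span p.ResidueField (Set.range fun j => db (k := k) p ((Fin.snoc x y : Fin (i+1) → A) j))
        show min (i + 1) r ≤ Module.finrank p.ResidueField W'
        have hle : W ≤ W' := Submodule.span_le.2 (by
          rintro _ ⟨j, rfl⟩
          exact Submodule.subset_span ⟨j.castSucc, by simp⟩)
        rcases hyW with hWt | hyW
        · have : W' = ⊤ := top_le_iff.1 (hWt ▸ hle)
          rw [this, finrank_top]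
          exact min_le_right _ _
        · have hlt : W < W' := lt_of_le_not_ge hle fun hge => hyW (hge (Submodule.subset_span ⟨Fin.last i, by simp⟩))
          have h5 : min i r ≤ Module.finrank p.ResidueField W := hrk
          have h6 := Submodule.finrank_lt_finrank_of_lt hlt
          have h7 : min (i + 1) r ≤ min i r + 1 := by omega
          exact h7.trans (Nat.lt_of_le_of_lt h5 h6)
  obtain ⟨x, hx, hco, hrk⟩ := key n le_rfl
  refine ⟨x, hx, ?_, ?_⟩
  · rw [Ideal.radical_eq_sInf]
    refine le_sInf fun Q hQ => ?_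
    haveI := hQ.2
    have h := hco ⟨Q, hQ.2⟩ fun j => hQ.1 (Ideal.subset_span ⟨j, rfl⟩)
    rw [Nat.sub_self, Nat.cast_zero, nonpos_iff_eq_zero, Order.coheight_eq_zero] at h
    exact h (b := ⟨maximalIdeal A, (IsLocalRing.maximalIdeal.isMaximal A).isPrime⟩)
      (IsLocalRing.le_maximalIdeal hQ.2.ne_top)
  · rw [Tools.genAt_iff_fibre, ← Set.range_comp]
    refine Submodule.eq_top_of_finrank_eq (le_antisymm (Submodule.finrank_le _) ?_)
    rw [min_eq_right hrank] at hrk
    exact hrk

end Groth.Agent.H2.Omega.Choose
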