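import Groth.Agent.Lib.Adic.Complete
import Mathlib.RingTheory.AdicCompletion.Completeness
import Mathlib.RingTheory.Kaehler.Basic
import Mathlib.LinearAlgebra.TensorProduct.Quotient
import Mathlib.RingTheory.Filtration

/-!
# Completions of exact sequences with finite completion in the middle
-/

set_option autoImplicit false
set_option linter.style.haveILetI false

universe u

open IsLocalRing

namespace Groth.Agent.H2.Omega.Complete

variable {S : Type u} [CommRing S] [IsNoetherianRing S] [IsLocalRing S]

theorem finite_completion [IsAdicComplete (maximalIdeal S) S] {k : Type u} [Field k] [Algebra k S]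
    [Module.Finite (ResidueField S) (Ω[ResidueField S⁄k])] :
    Module.Finite S (AdicCompletion (maximalIdeal S) (Ω[S⁄k])) := by
  let K := ResidueField S
  let M := Ω[S⁄k]
  let m := maximalIdeal S
  have hsurj : Function.Surjective (algebraMap S K) := IsLocalRing.residue_surjective
  haveI hKfin : Module.Finite S K := Module.Finite.of_surjective (Algebra.linearMap S K) hsurj
  haveI : Module.Finite S (Ω[K⁄k]) := Module.Finite.trans K _
  haveI : Module.Finite S (TensorProduct S K M) := by
    let f := (KaehlerDifferential.mapBaseChange k S K).restrictScalars S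
    let g := KaehlerDifferential.kerCotangentToTensor k S K
    haveI : Module.Finite S ↥(RingHom.ker (algebraMap S K)) :=
      Module.Finite.iff_fg.2 (IsNoetherian.noetherian _)
    haveI : Module.Finite S (RingHom.ker (algebraMap S K)).Cotangent :=
      Module.Finite.of_surjective _ (Ideal.toCotangent_surjective _)
    have hex : Function.Exact g f := KaehlerDifferential.exact_kerCotangentToTensor_mapBaseChange k S K hsurj
    haveI : Module.Finite S (LinearMap.ker f) := by
      rw [hex.linearMap_ker_eq]; infer_instance
    haveI := Module.Finite.equiv f.quotKerEquivRange.symm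
    exact Module.Finite.of_submodule_quotient (LinearMap.ker f)
  haveI hq : Module.Finite S (M ⧸ (m • ⊤ : Submodule S M)) :=
    haveI : Module.Finite S (TensorProduct S (S ⧸ m) M) := ‹Module.Finite S (TensorProduct S K M)›
    Module.Finite.equiv (TensorProduct.quotTensorEquivQuotSMul M m)
  obtain ⟨n, e, he⟩ := Module.Finite.exists_fin' S (M ⧸ (m • ⊤ : Submodule S M))
  obtain ⟨f, hf⟩ := Module.projective_lifting_property (Submodule.mkQ (m • ⊤ : Submodule S M)) e
    (Submodule.mkQ_surjective _)
  have h : Function.Surjective (Submodule.mkQ (m • ⊤) ∘ₗ f) := hf ▸ he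
  haveI : IsAdicComplete m (Fin n → S) := Lib.Adic.Complete.isAdicComplete_of_finite
  haveI : Module.Finite S (AdicCompletion m (Fin n → S)) :=
    Module.Finite.equiv (AdicCompletion.ofLinearEquiv m (Fin n → S))
  exact Module.Finite.of_surjective ((AdicCompletion.map m f).restrictScalars S)
    (AdicCompletion.map_surjective_of_mkQ_comp_surjective h)

theorem range_map_eq_ker {T M N : Type u} [AddCommGroup T] [Module S T] [AddCommGroup M] [Module S M]
    [AddCommGroup N] [Module S N] (f : T →ₗ[S] M) (g : M →ₗ[S] N) (hex : Function.Exact f g)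
    (hg : Function.Surjective g) [Module.Finite S (AdicCompletion (maximalIdeal S) M)] :
    LinearMap.range (AdicCompletion.map (maximalIdeal S) f) =
      LinearMap.ker (AdicCompletion.map (maximalIdeal S) g) := by
  let m := maximalIdeal S
  apply le_antisymm
  · rintro _ ⟨y, rfl⟩
    rw [LinearMap.mem_ker, AdicCompletion.map_comp_apply, hex.linearMap_comp_eq_zero,
      AdicCompletion.map_zero, LinearMap.zero_apply]
  · intro x hx
    let W := LinearMap.range ((AdicCompletion.map m f).restrictScalars S)
    suffices h : W.mkQ x ∈ ⨅ n : ℕ, m ^ n • (⊤ : Submodule S (AdicCompletion m M ⧸ W)) by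
      rw [Ideal.iInf_pow_smul_eq_bot_of_isLocalRing _ (IsLocalRing.maximalIdeal.isMaximal S).ne_top,
        Submodule.mem_bot, Submodule.mkQ_apply, Submodule.Quotient.mk_eq_zero] at h
      exact h
    rw [Submodule.mem_iInf]
    intro n
    obtain ⟨w, hw⟩ := Submodule.mkQ_surjective _ (AdicCompletion.eval m M n x)
    have hgw : g w ∈ (m ^ n • ⊤ : Submodule S N) := by
      have h0 : AdicCompletion.eval m N n (AdicCompletion.map m g x) = 0 := by
        rw [LinearMap.mem_ker.1 hx, map_zero]
      rw [← Submodule.Quotient.mk_eq_zero, ← h0]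
      show _ = (AdicCompletion.map m g x).val n
      rw [AdicCompletion.map_val_apply]
      show _ = LinearMap.reduceModIdeal (m ^ n) g (AdicCompletion.eval m M n x)
      rw [← hw]
      rfl
    rw [← LinearMap.range_eq_top.2 hg, LinearMap.range_eq_map, ← Submodule.map_smul''] at hgw
    obtain ⟨z, hz, hzw⟩ := hgw
    obtain ⟨t, ht⟩ := (hex (w - z)).1 (by rw [map_sub, hzw, sub_self])
    have hx' : x - AdicCompletion.map m f (AdicCompletion.of m T t) ∈
        (m ^ n • ⊤ : Submodule S (AdicCompletion m M)) := by
      rw [AdicCompletion.pow_smul_top_eq_ker_eval (IsNoetherian.noetherian m), LinearMap.mem_ker,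
        map_sub, AdicCompletion.map_of, AdicCompletion.eval_of, ← hw, ← map_sub, ht,
        sub_sub_cancel, Submodule.mkQ_apply, Submodule.Quotient.mk_eq_zero]
      exact hz
    have h2 : W.mkQ (x - AdicCompletion.map m f (AdicCompletion.of m T t)) ∈
        (m ^ n • ⊤ : Submodule S (AdicCompletion m M)).map W.mkQ := Submodule.mem_map_of_mem hx'
    rw [Submodule.map_smul'', Submodule.map_top, Submodule.range_mkQ, map_sub,
      show W.mkQ (AdicCompletion.map m f (AdicCompletion.of m T t)) = 0 from
        (Submodule.Quotient.mk_eq_zero _).2 ⟨_, rfl⟩, sub_zero] at h2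
    exact h2

end Groth.Agent.H2.Omega.Complete
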