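import Groth.Agent.H2.Omega.RankP

/-!
# The conormal bound for completed differentials
-/

set_option autoImplicit false
set_option linter.style.haveILetI false
set_option linter.unusedSectionVars false

universe u

open IsLocalRing TensorProduct

namespace Groth.Agent.H2.Omega.Conormal

variable {k A : Type u} [Field k] [CommRing A] [IsLocalRing A] [IsNoetherianRing A] [Algebra k A]
  [IsAdicComplete (maximalIdeal A) A] [Module.Finite k (ResidueField A)]

/-- Generic rank of a domain quotient with separable normalization in characteristic zero. -/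
theorem generic_rank_charZero [CharZero k] [IsDomain A] {d : ℕ} (hd : ringKrullDim A = d) :
    haveI := Ideal.isPrime_bot (α := A)
    Module.finrank (⊥ : Ideal A).ResidueField ((⊥ : Ideal A).ResidueField ⊗[A] Basic.Om k A) = d := by
  haveI := Etale.isDomain_P (k := k) (n := d)
  obtain ⟨x, hx, hrad⟩ := Lib.Cohen.PSRegular.exists_sop A hd
  obtain ⟨g, -, hfin⟩ := Tools.exists_finite_algHom (k := k) x hx hrad
  let P := MvPowerSeries (Fin d) k
  letI : Algebra P A := g.toRingHom.toAlgebra
  haveI : Module.Finite P A := hfin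
  haveI : IsScalarTower k P A := .of_algebraMap_eq fun r => (g.commutes r).symm
  have hinj := Lib.Cohen.PSRegular.injective_of_finite g.toRingHom hfin
    (H24.PowerSeries.ringKrullDim_eq k d) hd
  let L := FractionRing P
  haveI : CharZero L := by
    haveI : CharZero P := charZero_of_injective_algebraMap (algebraMap k P).injective
    exact charZero_of_injective_algebraMap (IsFractionRing.injective P L)
  refine Generic.finrank_eq (k := k) (A := A) (r := d) (fun a => ?_) hinj
  haveI : IsIntegrallyClosed P := Etale.isIntegrallyClosed_P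
  haveI : FaithfulSMul P A := (faithfulSMul_iff_algebraMap_injective _ _).2 hinj
  have hint : IsIntegral P a := Algebra.IsIntegral.isIntegral a
  refine ⟨minpoly P a, minpoly.aeval P a, PerfectField.separable_of_irreducible ?_⟩
  exact ((minpoly.monic hint).irreducible_iff_irreducible_map_fraction_map).1 (minpoly.irreducible hint)

theorem finrank_le (P : Ideal A) [P.IsPrime] {h d : ℕ}
    (hh : (maximalIdeal (Localization.AtPrime P)).spanFinrank ≤ h)
    (hd : ∀ (_ : IsLocalRing (A ⧸ P)), IsAdicComplete (maximalIdeal (A ⧸ P)) (A ⧸ P) →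
      Module.Finite k (ResidueField (A ⧸ P)) →
      Module.finrank (⊥ : Ideal (A ⧸ P)).ResidueField
        ((⊥ : Ideal (A ⧸ P)).ResidueField ⊗[A ⧸ P] Basic.Om k (A ⧸ P)) ≤ d) :
    Module.finrank P.ResidueField (P.ResidueField ⊗[A] Basic.Om k A) ≤ h + d := by
  classical
  haveI := Basic.finite k A
  obtain ⟨hl, hc, hf⟩ := RankP.quotient_props (k := k) P
  haveI := Basic.finite k (A ⧸ P)
  haveI : (⊥ : Ideal (A ⧸ P)).IsPrime := Ideal.isPrime_bot
  have hd' := hd hl hc hf
  obtain ⟨t, ht⟩ := Tools.exists_genAt (M := Basic.Om k (A ⧸ P)) (⊥ : Ideal (A ⧸ P))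
  -- the target of the conormal sequence
  let N : Submodule A (Basic.Om k A) := Submodule.span A (Basic.dh k A '' (P : Set A)) ⊔ P • ⊤
  let N0 := Basic.Om k A ⧸ N
  have htor : ∀ (a : A) (z : N0), a ∈ P → a • z = 0 := fun a z ha => by
    obtain ⟨y, rfl⟩ := Submodule.Quotient.mk_surjective _ z
    rw [← Submodule.Quotient.mk_smul, Submodule.Quotient.mk_eq_zero]
    exact Submodule.mem_sup_right (Submodule.smul_mem_smul ha trivial)
  have hT : Module.IsTorsionBySet A N0 (P : Set A) := fun z a => htor a z a.2
  letI : Module (A ⧸ P) N0 := hT.module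
  haveI : IsScalarTower A (A ⧸ P) N0 := hT.isScalarTower
  haveI : IsScalarTower k (A ⧸ P) N0 := .of_algebraMap_smul fun c z => by
    rw [IsScalarTower.algebraMap_apply k A (A ⧸ P), algebraMap_smul (A ⧸ P), algebraMap_smul A]
  haveI : Module.Finite A N0 := inferInstance
  haveI : Module.Finite (A ⧸ P) N0 := Module.Finite.of_restrictScalars_finite A _ _
  let δ0 : A →+ N0 := (N.mkQ.toAddMonoidHom).comp
    { toFun := Basic.dh k A
      map_zero' := by rw [← map_zero (algebraMap k A), Basic.dh_algebraMap]
      map_add' := Basic.dh_add }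
  have hkill : ∀ a ∈ P, δ0 a = 0 := fun a ha =>
    (Submodule.Quotient.mk_eq_zero N).2 (Submodule.mem_sup_left (Submodule.subset_span ⟨a, ha, rfl⟩))
  choose lift hlift using fun z : A ⧸ P => Ideal.Quotient.mk_surjective z
  have hδ : ∀ a, δ0 (lift (Ideal.Quotient.mk P a)) = δ0 a := fun a => by
    rw [← sub_eq_zero, ← map_sub]
    exact hkill _ (Ideal.Quotient.eq.1 (hlift _))
  have hsm : ∀ (a : A) (z : N0), (Ideal.Quotient.mk P a) • z = a • z := fun a z =>
    algebraMap_smul (A ⧸ P) a z
  let δ : Derivation k (A ⧸ P) N0 :=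
    { toFun := fun z => δ0 (lift z)
      map_add' := fun x y => by
        obtain ⟨a, rfl⟩ := Ideal.Quotient.mk_surjective x
        obtain ⟨b, rfl⟩ := Ideal.Quotient.mk_surjective y
        rw [← map_add (Ideal.Quotient.mk P), hδ, hδ, hδ, map_add]
      map_smul' := fun c x => by
        obtain ⟨a, rfl⟩ := Ideal.Quotient.mk_surjective x
        rw [show c • Ideal.Quotient.mk P a = Ideal.Quotient.mk P (c • a) from
          (map_smul (Ideal.Quotient.mkₐ k P) c a).symm, hδ, hδ, RingHom.id_apply]
        show N.mkQ (Basic.dh k A (c • a)) = c • N.mkQ (Basic.dh k A a)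
        rw [Basic.dh_smul, map_smul, algebraMap_smul]
      map_one_eq_zero' := by
        show δ0 (lift 1) = 0
        rw [← map_one (Ideal.Quotient.mk P), hδ]
        show N.mkQ (Basic.dh k A 1) = 0
        rw [← map_one (algebraMap k A), Basic.dh_algebraMap, map_zero]
      leibniz' := fun x y => by
        obtain ⟨a, rfl⟩ := Ideal.Quotient.mk_surjective x
        obtain ⟨b, rfl⟩ := Ideal.Quotient.mk_surjective y
        show δ0 (lift _) = _ • δ0 (lift _) + _ • δ0 (lift _)
        rw [← map_mul, hδ, hδ, hδ, hsm, hsm]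
        show N.mkQ (Basic.dh k A (a * b)) = a • N.mkQ (Basic.dh k A b) + b • N.mkQ (Basic.dh k A a)
        rw [Basic.dh_mul, map_add, map_smul, map_smul] }
  obtain ⟨f, hf'⟩ := Basic.exists_lift k (A ⧸ P) δ
  choose y hy using fun i => Submodule.mkQ_surjective N (f (t i))
  -- generators of the maximal ideal of the local ring
  let R := Localization.AtPrime P
  haveI : IsNoetherianRing R := IsLocalization.isNoetherianRing P.primeCompl _ inferInstance
  obtain ⟨s, hs, hspan⟩ := Submodule.FG.exists_span_set_encard_eq_spanFinrank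
    (IsNoetherian.noetherian (maximalIdeal R))
  have hsf : s.Finite := Set.finite_of_encard_eq_coe hs
  choose b hb using fun z : hsf.toFinset => IsLocalization.exists_mk'_eq P.primeCompl (z : R)
  choose tb htb using hb
  have hbP : ∀ z, b z ∈ P := fun z => by
    have h1 : (z : R) ∈ maximalIdeal R := hspan ▸ Submodule.subset_span (hsf.mem_toFinset.1 z.2)
    rw [← htb z, IsLocalization.mk'_mem_iff] at h1
    exact (Localization.AtPrime.comap_maximalIdeal (I := P)).le h1
  let K := P.ResidueField
  let g : Fin _ ⊕ hsf.toFinset → K ⊗[A] Basic.Om k A :=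
    Sum.elim (fun i => 1 ⊗ₜ[A] y i) (fun z => 1 ⊗ₜ[A] Basic.dh k A (b z))
  let W := Submodule.span K (Set.range g)
  have h0 : ∀ a ∈ P, algebraMap A K a = 0 := fun a ha => by
    rwa [Ideal.algebraMap_residueField_eq_zero]
  have hunit : ∀ a ∉ P, IsUnit (algebraMap A K a) := fun a ha =>
    (Ne.isUnit (by rwa [ne_eq, Ideal.algebraMap_residueField_eq_zero]))
  have hdP : ∀ a ∈ P, (1 : K) ⊗ₜ[A] Basic.dh k A a ∈ W := by
    intro a ha
    have h1 : algebraMap A R a ∈ Ideal.span (Set.range fun z => algebraMap A R (b z)) := by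
      have h2 : algebraMap A R a ∈ maximalIdeal R := by
        rw [← Localization.AtPrime.map_eq_maximalIdeal]; exact Ideal.mem_map_of_mem _ ha
      rw [← hspan] at h2
      refine Ideal.span_le.2 ?_ h2
      intro z hz
      have h3 := htb ⟨z, hsf.mem_toFinset.2 hz⟩
      rw [IsLocalization.mk'_eq_mul_mk'_one] at h3
      change z ∈ Ideal.span _
      rw [show z = _ from h3.symm]
      exact Ideal.mul_mem_right _ _ (Ideal.subset_span ⟨_, rfl⟩)
    rw [Set.range_comp' (algebraMap A R) b, ← Ideal.map_span,
      IsLocalization.mem_map_algebraMap_iff P.primeCompl R] at h1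
    obtain ⟨⟨⟨c, hc⟩, u⟩, hu⟩ := h1
    rw [← map_mul] at hu
    obtain ⟨v, hv⟩ := (IsLocalization.eq_iff_exists P.primeCompl R).1 hu
    obtain ⟨e, he⟩ := Ideal.mem_span_range_iff_exists_fun.1 hc
    have h3 : ((v : A) * u) * a = ∑ z, ((v : A) * e z) * b z := by
      calc ((v : A) * u) * a = (v : A) * (a * u) := by ring
        _ = (v : A) * c := hv
        _ = _ := by rw [← he, Finset.mul_sum]; simp [mul_assoc]
    have h4 := congrArg (fun x => (1 : K) ⊗ₜ[A] Basic.dh k A x) h3
    rw [Basic.dh_mul, TensorProduct.tmul_add, TensorProduct.tmul_smul, TensorProduct.tmul_smul,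
      ← algebraMap_smul K a, h0 a ha, zero_smul, add_zero, ← algebraMap_smul K ((v : A) * u)] at h4
    have h5 : (1 : K) ⊗ₜ[A] Basic.dh k A (∑ z, ((v : A) * e z) * b z) ∈ W := by
      let φ : A →+ K ⊗[A] Basic.Om k A :=
        (TensorProduct.mk A K (Basic.Om k A) 1).toAddMonoidHom.comp
          { toFun := Basic.dh k A
            map_zero' := by rw [← map_zero (algebraMap k A), Basic.dh_algebraMap]
            map_add' := Basic.dh_add }
      show φ _ ∈ W
      rw [map_sum]
      refine Submodule.sum_mem _ fun z _ => ?_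
      show (1 : K) ⊗ₜ[A] Basic.dh k A _ ∈ W
      rw [Basic.dh_mul, TensorProduct.tmul_add, TensorProduct.tmul_smul, TensorProduct.tmul_smul,
        ← algebraMap_smul K (b z), h0 _ (hbP z), zero_smul, add_zero, ← algebraMap_smul K ((v : A) * e z)]
      exact Submodule.smul_mem _ _ (Submodule.subset_span ⟨Sum.inr z, rfl⟩)
    rw [← h4] at h5
    rwa [W.smul_mem_iff (hunit _ (P.primeCompl.mul_mem v.2 u.2)).ne_zero] at h5
  have hN : ∀ z ∈ N, (1 : K) ⊗ₜ[A] z ∈ W := by
    intro z hz
    obtain ⟨z1, hz1, z2, hz2, rfl⟩ := Submodule.mem_sup.1 hz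
    rw [TensorProduct.tmul_add]
    clear hz
    refine add_mem ?_ ?_
    · induction hz1 using Submodule.span_induction with
      | mem x hx => obtain ⟨a, ha, rfl⟩ := hx; exact hdP a ha
      | zero => rw [TensorProduct.tmul_zero]; exact zero_mem _
      | add x y _ _ hx hy => rw [TensorProduct.tmul_add]; exact add_mem hx hy
      | smul r x _ hx =>
        rw [TensorProduct.tmul_smul, ← algebraMap_smul K r]; exact W.smul_mem _ hx
    · refine Submodule.smul_induction_on (p := fun x => (1 : K) ⊗ₜ[A] x ∈ W) hz2 (fun r hr x _ => ?_)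
        (fun x y hx hy => ?_)
      · rw [TensorProduct.tmul_smul, ← algebraMap_smul K r, h0 r hr, zero_smul]; exact zero_mem _
      · rw [TensorProduct.tmul_add]; exact add_mem hx hy
  have hall : ∀ a, (1 : K) ⊗ₜ[A] Basic.dh k A a ∈ W := by
    intro a
    obtain ⟨c, hc, hmem⟩ := ht (Basic.dh k (A ⧸ P) (Ideal.Quotient.mk P a))
    obtain ⟨c, rfl⟩ := Ideal.Quotient.mk_surjective c
    obtain ⟨e, he⟩ := (Submodule.mem_span_range_iff_exists_fun _).1 hmem
    choose e' he' using fun i => Ideal.Quotient.mk_surjective (e i)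
    have h1 := congrArg f he
    have hfa : f (Basic.dh k (A ⧸ P) (Ideal.Quotient.mk P a)) = N.mkQ (Basic.dh k A a) :=
      (hf' _).trans (hδ a)
    rw [map_sum, map_smul, hfa, hsm] at h1
    simp only [map_smul, ← he', hsm, ← hy] at h1
    rw [← map_smul] at h1
    simp only [← map_smul, ← map_sum] at h1
    rw [Submodule.mkQ_apply, Submodule.mkQ_apply, Submodule.Quotient.eq] at h1
    have h2 := hN _ h1
    rw [TensorProduct.tmul_sub, TensorProduct.tmul_sum] at h2
    have h3 : ∑ i, (1 : K) ⊗ₜ[A] (e' i • y i) ∈ W := Submodule.sum_mem _ fun i _ => by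
      rw [TensorProduct.tmul_smul, ← algebraMap_smul K (e' i)]
      exact W.smul_mem _ (Submodule.subset_span ⟨Sum.inl i, rfl⟩)
    have h4 : (1 : K) ⊗ₜ[A] (c • Basic.dh k A a) ∈ W := by
      have := sub_mem h3 h2
      rwa [sub_sub_cancel] at this
    rwa [TensorProduct.tmul_smul, ← algebraMap_smul K c,
      W.smul_mem_iff (hunit c fun hcP => hc (by simp [Ideal.Quotient.eq_zero_iff_mem.2 hcP])).ne_zero] at h4
  have hW : W = ⊤ := by
    rw [eq_top_iff]
    rintro z -
    induction z using TensorProduct.induction_on with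
    | zero => exact zero_mem _
    | add b c hb hc => exact add_mem hb hc
    | tmul r x =>
      have h1 : (1 : K) ⊗ₜ[A] x ∈ W := by
        have hx : x ∈ Submodule.span A (Set.range (Basic.dh k A)) := by rw [Basic.span_range_dh]; trivial
        induction hx using Submodule.span_induction with
        | mem w hw => obtain ⟨b, rfl⟩ := hw; exact hall b
        | zero => rw [TensorProduct.tmul_zero]; exact zero_mem _
        | add b c _ _ hb hc => rw [TensorProduct.tmul_add]; exact add_mem hb hc
        | smul r w _ hw => rw [TensorProduct.tmul_smul, ← algebraMap_smul K r]; exact W.smul_mem _ hw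
      rw [show r ⊗ₜ[A] x = r • ((1 : K) ⊗ₜ[A] x) by rw [TensorProduct.smul_tmul', smul_eq_mul, mul_one]]
      exact W.smul_mem _ h1
  have e := finrank_range_le_card (R := K) g
  rw [Set.finrank, show Submodule.span K (Set.range g) = ⊤ from hW, finrank_top, Fintype.card_sum,
    Fintype.card_fin, Fintype.card_coe] at e
  have hcard : hsf.toFinset.card ≤ h := by
    have : hsf.toFinset.card = (maximalIdeal R).spanFinrank := by
      rw [hsf.encard_eq_coe_toFinset_card] at hs
      exact_mod_cast hs
    exact this.trans_le hh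
  exact e.trans (by omega)

end Groth.Agent.H2.Omega.Conormal
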