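import Mathlib.RingTheory.Derivation.Basic
import Mathlib.RingTheory.AdjoinRoot
import Mathlib.Algebra.TrivSqZeroExt.Basic
import Mathlib.FieldTheory.IntermediateField.Adjoin.Basic
import Mathlib.RingTheory.Etale.Kaehler
import Mathlib.RingTheory.Localization.FractionRing

/-!
# Extending derivations along finite field extensions

If a field has `d` derivations dual to `d` elements, so does each finite extension, and the new
derivations restrict to combinations of the old ones.
-/

set_option autoImplicit false
set_option linter.style.haveILetI false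

universe u

open Polynomial

namespace Groth.Agent.H2.Omega.DerivExt

variable {k : Type u} [Field k] {P : Type u} [CommRing P] [Algebra k P] {d : ℕ}

/-- `d` derivations of `L`, dual to `d` elements, combinations of `∂` on `P`. -/
def Good (D : Fin d → Derivation k P P) {L : Type u} [Field L] [Algebra k L] (φ : P →ₐ[k] L) : Prop :=
  ∃ (δ : Fin d → Derivation k L L) (l : Fin d → L),
    (∀ i j, δ i (l j) = if i = j then 1 else 0) ∧
      ∀ i, ∃ c : Fin d → L, ∀ f, δ i (φ f) = ∑ j, c j * φ (D j f)

variable {D : Fin d → Derivation k P P}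

section Step

variable {L L' : Type u} [Field L] [Field L'] [Algebra k L] [Algebra k L'] [Algebra L L']
  [IsScalarTower k L L']

/-- The derivative of the coefficients, evaluated at `a`. -/
noncomputable def coeffDeriv (δ : Derivation k L L') (a : L') (f : L[X]) : L' :=
  f.sum fun n c => δ c * a ^ n

theorem coeffDeriv_add (δ : Derivation k L L') (a : L') (f g : L[X]) :
    coeffDeriv δ a (f + g) = coeffDeriv δ a f + coeffDeriv δ a g :=
  Polynomial.sum_add_index _ _ _ (by simp) (by simp [add_mul])

theorem coeffDeriv_monomial (δ : Derivation k L L') (a : L') (n : ℕ) (c : L) :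
    coeffDeriv δ a (monomial n c) = δ c * a ^ n :=
  Polynomial.sum_monomial_index c _ (by simp)

theorem coeffDeriv_sub_smul (δ ε : Derivation k L L') (r a : L') (f : L[X]) :
    coeffDeriv (δ - r • ε) a f = coeffDeriv δ a f - r * coeffDeriv ε a f := by
  simp only [coeffDeriv, Polynomial.sum_def, Derivation.sub_apply, Derivation.smul_apply, smul_eq_mul,
    Finset.mul_sum, ← Finset.sum_sub_distrib]
  exact Finset.sum_congr rfl fun n _ => by ring

/-- Extension of a derivation to a simple extension. -/
theorem exists_extension (a : L') (hint : IsIntegral L a) (hgen : Algebra.adjoin L {a} = ⊤)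
    (δ : Derivation k L L') (y : L')
    (h : coeffDeriv δ a (minpoly L a) + aeval a (minpoly L a).derivative * y = 0) :
    ∃ δ' : Derivation k L' L', (∀ x : L, δ' (algebraMap L L' x) = δ x) ∧ δ' a = y := by
  let i : L →+* TrivSqZeroExt L' L' :=
    { toFun := fun c => TrivSqZeroExt.inl (algebraMap L L' c) + TrivSqZeroExt.inr (δ c)
      map_one' := by simp
      map_mul' := fun b c => by
        apply TrivSqZeroExt.ext
        · simp
        · simp [Algebra.smul_def]; ring
      map_zero' := by simp
      map_add' := fun b c => by
        apply TrivSqZeroExt.ext <;> simp }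
  let x₀ : TrivSqZeroExt L' L' := TrivSqZeroExt.inl a + TrivSqZeroExt.inr y
  have hev : ∀ f : L[X], f.eval₂ i x₀ =
      TrivSqZeroExt.inl (aeval a f) +
        TrivSqZeroExt.inr (coeffDeriv δ a f + aeval a f.derivative * y) := by
    intro f
    induction f using Polynomial.induction_on' with
    | add f g hf hg =>
      rw [eval₂_add, hf, hg, map_add, map_add, map_add, coeffDeriv_add]
      apply TrivSqZeroExt.ext
      · simp
      · simp; ring
    | monomial n c =>
      rw [eval₂_monomial, coeffDeriv_monomial]
      apply TrivSqZeroExt.ext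
      · simp [i, x₀]
      · simp [i, x₀, derivative_monomial]
        ring
  have h0 : (minpoly L a).eval₂ i x₀ = 0 := by
    rw [hev, minpoly.aeval, h]
    simp
  haveI : Fact (Irreducible (minpoly L a)) := ⟨minpoly.irreducible hint⟩
  let Φ : AdjoinRoot (minpoly L a) →ₐ[L] L' :=
    AdjoinRoot.liftAlgHom (minpoly L a) (Algebra.ofId L L') a (minpoly.aeval L a)
  have hΦ : Function.Surjective Φ := by
    rw [← AlgHom.range_eq_top, eq_top_iff, ← hgen]
    exact Algebra.adjoin_le (Set.singleton_subset_iff.2
      ⟨AdjoinRoot.root _, AdjoinRoot.liftAlgHom_root _ _ _ _⟩)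
  let e := AlgEquiv.ofBijective Φ ⟨Φ.toRingHom.injective, hΦ⟩
  let ψ : L' →+* TrivSqZeroExt L' L' := (AdjoinRoot.lift i x₀ h0).comp e.symm.toRingEquiv.toRingHom
  have hψa : ψ a = x₀ := by
    have : e.symm a = AdjoinRoot.root _ := e.symm_apply_eq.2 (show a = Φ (AdjoinRoot.root _) from (AdjoinRoot.liftAlgHom_root (minpoly L a) (Algebra.ofId L L') a (minpoly.aeval L a)).symm)
    show AdjoinRoot.lift i x₀ h0 (e.symm a) = _
    rw [this, AdjoinRoot.lift_root]
  have hψL : ∀ c : L, ψ (algebraMap L L' c) = i c := fun c => by
    show AdjoinRoot.lift i x₀ h0 (e.symm (algebraMap L L' c)) = _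
    rw [AlgEquiv.commutes, AdjoinRoot.algebraMap_eq, AdjoinRoot.lift_of]
  have hfst : ∀ z : L', TrivSqZeroExt.fst (ψ z) = z := by
    intro z
    have hz : z ∈ Algebra.adjoin L {a} := hgen ▸ trivial
    induction hz using Algebra.adjoin_induction with
    | mem x hx => rw [Set.mem_singleton_iff.1 hx, hψa]; simp [x₀]
    | algebraMap c => rw [hψL]; simp [i]
    | add b c _ _ hb hc => rw [map_add, TrivSqZeroExt.fst_add, hb, hc]
    | mul b c _ _ hb hc => rw [map_mul, TrivSqZeroExt.fst_mul, hb, hc]
  have hsmul : ∀ (c : k) (z : L'), TrivSqZeroExt.snd (ψ (c • z)) = c • TrivSqZeroExt.snd (ψ z) := by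
    intro c z
    rw [Algebra.smul_def, IsScalarTower.algebraMap_apply k L L', map_mul, TrivSqZeroExt.snd_mul, hψL,
      Algebra.smul_def c (TrivSqZeroExt.snd (ψ z))]
    simp [i, IsScalarTower.algebraMap_apply k L L']
  let δ' : Derivation k L' L' :=
    { toFun := fun z => TrivSqZeroExt.snd (ψ z)
      map_add' := fun b c => by rw [map_add, TrivSqZeroExt.snd_add]
      map_smul' := hsmul
      map_one_eq_zero' := by simp
      leibniz' := fun b c => by
        show TrivSqZeroExt.snd (ψ (b * c)) = b • TrivSqZeroExt.snd (ψ c) + c • TrivSqZeroExt.snd (ψ b)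
        rw [map_mul, TrivSqZeroExt.snd_mul, hfst, hfst]
        simp [smul_eq_mul, mul_comm] }
  refine ⟨δ', fun c => ?_, ?_⟩
  · show TrivSqZeroExt.snd (ψ (algebraMap L L' c)) = δ c
    rw [hψL]; simp [i]
  · show TrivSqZeroExt.snd (ψ a) = y
    rw [hψa]; simp [x₀]

theorem Good.step (a : L') (hint : IsIntegral L a) (hgen : Algebra.adjoin L {a} = ⊤) {φ : P →ₐ[k] L}
    (h : Good D φ) : Good D ((IsScalarTower.toAlgHom k L L').comp φ) := by
  classical
  obtain ⟨δ, l, hdual, hcomb⟩ := h
  choose c hc using hcomb
  let ε : Fin d → Derivation k L L' := fun i => (Algebra.linearMap L L').compDer (δ i)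
  have hε : ∀ i x, ε i x = algebraMap L L' (δ i x) := fun i x => rfl
  let g : Fin d → L' := fun i => coeffDeriv (ε i) a (minpoly L a)
  let f' := aeval a (minpoly L a).derivative
  by_cases hf' : f' = 0
  · by_cases hg : ∀ i, g i = 0
    · choose δ' h1 _ using fun i => exists_extension a hint hgen (ε i) 0
        (by rw [mul_zero, add_zero]; exact hg i)
      refine ⟨δ', fun j => algebraMap L L' (l j), fun i j => ?_,
        fun i => ⟨fun j => algebraMap L L' (c i j), fun f => ?_⟩⟩
      · rw [h1, hε, hdual]; split <;> simp
      · show δ' i (algebraMap L L' (φ f)) = ∑ j, _ * algebraMap L L' (φ (D j f))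
        simp only [h1, hε, hc, map_sum, map_mul]
    · push Not at hg
      obtain ⟨i₀, hi₀⟩ := hg
      let r : Fin d → L' := fun i => g i / g i₀
      choose δ' h1 h2 using fun i => exists_extension a hint hgen (ε i - r i • ε i₀) 0 (by
        rw [mul_zero, add_zero, coeffDeriv_sub_smul]
        show g i - g i / g i₀ * g i₀ = 0
        rw [div_mul_cancel₀ _ hi₀, sub_self])
      obtain ⟨τ, ht1, ht2⟩ := exists_extension a hint hgen (0 : Derivation k L L') 1 (by
        rw [show aeval a (minpoly L a).derivative = 0 from hf', zero_mul, add_zero]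
        simp [coeffDeriv, Polynomial.sum_def])
      refine ⟨Function.update δ' i₀ τ, Function.update (fun j => algebraMap L L' (l j)) i₀ a,
        fun i j => ?_, fun i => ?_⟩
      · rcases eq_or_ne i i₀ with hi | hi <;> rcases eq_or_ne j i₀ with hj | hj
        · subst hi hj; simp [ht2]
        · subst hi
          rw [Function.update_self, Function.update_of_ne hj, ht1, if_neg (Ne.symm hj)]
          rfl
        · subst hj
          rw [Function.update_of_ne hi, Function.update_self, h2, if_neg hi]
        · rw [Function.update_of_ne hi, Function.update_of_ne hj, h1, Derivation.sub_apply,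
            Derivation.smul_apply, hε, hε, hdual, hdual, if_neg (Ne.symm hj)]
          split <;> simp
      · rcases eq_or_ne i i₀ with hi | hi
        · subst hi
          refine ⟨0, fun f => ?_⟩
          show Function.update δ' i τ i (algebraMap L L' (φ f)) = _
          rw [Function.update_self, ht1]
          simp
        · refine ⟨fun j => algebraMap L L' (c i j) - r i * algebraMap L L' (c i₀ j), fun f => ?_⟩
          show Function.update δ' i₀ τ i (algebraMap L L' (φ f)) =
            ∑ j, _ * algebraMap L L' (φ (D j f))
          rw [Function.update_of_ne hi, h1, Derivation.sub_apply, Derivation.smul_apply, hε, hε, hc,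
            hc, smul_eq_mul, map_sum, map_sum, Finset.mul_sum, ← Finset.sum_sub_distrib]
          exact Finset.sum_congr rfl fun j _ => by rw [map_mul, map_mul]; ring
  · choose δ' h1 _ using fun i => exists_extension a hint hgen (ε i) (-g i / f')
      (by show g i + f' * (-g i / f') = 0; rw [mul_div_cancel₀ _ hf', add_neg_cancel])
    refine ⟨δ', fun j => algebraMap L L' (l j), fun i j => ?_,
      fun i => ⟨fun j => algebraMap L L' (c i j), fun f => ?_⟩⟩
    · rw [h1, hε, hdual]; split <;> simp
    · show δ' i (algebraMap L L' (φ f)) = ∑ j, _ * algebraMap L L' (φ (D j f))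
      simp only [h1, hε, hc, map_sum, map_mul]

omit [Algebra L L'] [IsScalarTower k L L'] in
theorem Good.map (e : L ≃ₐ[k] L') {φ : P →ₐ[k] L} (h : Good D φ) : Good D (e.toAlgHom.comp φ) := by
  obtain ⟨δ, l, hdual, hcomb⟩ := h
  choose c hc using hcomb
  let δ' : Fin d → Derivation k L' L' := fun i =>
    { toFun := fun x => e (δ i (e.symm x))
      map_add' := fun x y => by simp
      map_smul' := fun r x => by simp
      map_one_eq_zero' := by simp
      leibniz' := fun x y => by simp }
  refine ⟨δ', fun j => e (l j), fun i j => ?_, fun i => ⟨fun j => e (c i j), fun f => ?_⟩⟩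
  · show e (δ i (e.symm (e (l j)))) = _
    rw [e.symm_apply_apply, hdual]; split <;> simp
  · show e (δ i (e.symm (e (φ f)))) = _
    rw [e.symm_apply_apply, hc]
    simp

end Step

open IntermediateField in
theorem good_of_finite {K L : Type u} [Field K] [Field L] [Algebra k K] [Algebra k L] [Algebra K L]
    [IsScalarTower k K L] [Module.Finite K L] {φ : P →ₐ[k] K} (h : Good D φ) :
    Good D ((IsScalarTower.toAlgHom k K L).comp φ) := by
  let pr : IntermediateField K L → Prop := fun E => Good D ((IsScalarTower.toAlgHom k K E).comp φ)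
  have main : pr ⊤ := by
    refine IntermediateField.induction_on_adjoin pr ?_ (fun E x hE => ?_) ⊤
    · have := h.map ((IntermediateField.botEquiv K L).symm.restrictScalars k)
      rw [show (((IntermediateField.botEquiv K L).symm.restrictScalars k).toAlgHom.comp φ) =
        (IsScalarTower.toAlgHom k K (⊥ : IntermediateField K L)).comp φ from
          AlgHom.ext fun f => (IntermediateField.botEquiv K L).symm.commutes (φ f)] at this
      exact this
    · have hint : IsIntegral E x := Algebra.IsIntegral.isIntegral x
      let pb := IntermediateField.adjoin.powerBasis hint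
      letI : Algebra k E⟮x⟯ := ((algebraMap E E⟮x⟯).comp (algebraMap k E)).toAlgebra
      haveI : IsScalarTower k E E⟮x⟯ := .of_algebraMap_eq' rfl
      have h2 := hE.step (L' := E⟮x⟯) pb.gen pb.isIntegral_gen pb.adjoin_gen_eq_top
      let E' := E⟮x⟯.restrictScalars K
      let e : E⟮x⟯ ≃ₐ[k] E' :=
        { toFun := fun z => ⟨z.1, z.2⟩
          invFun := fun z => ⟨z.1, z.2⟩
          left_inv := fun z => rfl
          right_inv := fun z => rfl
          map_mul' := fun a b => rfl
          map_add' := fun a b => rfl
          commutes' := fun r => Subtype.ext rfl }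
      have h3 := h2.map e
      rw [show e.toAlgHom.comp ((IsScalarTower.toAlgHom k E E⟮x⟯).comp
          ((IsScalarTower.toAlgHom k K E).comp φ)) = (IsScalarTower.toAlgHom k K E').comp φ from
            AlgHom.ext fun f => Subtype.ext rfl] at h3
      exact h3
  let e : (⊤ : IntermediateField K L) ≃ₐ[k] L :=
    { IntermediateField.topEquiv.toRingEquiv with
      commutes' := fun r => rfl }
  have := main.map e
  rw [show e.toAlgHom.comp ((IsScalarTower.toAlgHom k K (⊤ : IntermediateField K L)).comp φ) =
    (IsScalarTower.toAlgHom k K L).comp φ from AlgHom.ext fun f => rfl] at this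
  exact this

theorem good_fractionRing [IsDomain P] (K : Type u) [Field K] [Algebra P K] [IsFractionRing P K]
    [Algebra k K] [IsScalarTower k P K] (X : Fin d → P) (hX : ∀ i j, D i (X j) = if i = j then 1 else 0) :
    Good D (IsScalarTower.toAlgHom k P K) := by
  haveI : Algebra.FormallyEtale P K := Algebra.FormallyEtale.of_isLocalization (nonZeroDivisors P)
  let δ₀ : Fin d → Derivation k P K := fun i => (Algebra.linearMap P K).compDer (D i)
  let e := KaehlerDifferential.tensorKaehlerEquivOfFormallyEtale k P K
  let δ : Fin d → Derivation k K K := fun i =>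
    (((δ₀ i).liftKaehlerDifferential.liftBaseChange K).comp e.symm.toLinearMap).compDer
      (KaehlerDifferential.D k K)
  have hδ : ∀ i f, δ i (algebraMap P K f) = algebraMap P K (D i f) := fun i f => by
    show (δ₀ i).liftKaehlerDifferential.liftBaseChange K
      (e.symm (KaehlerDifferential.D k K (algebraMap P K f))) = _
    have : e ((1 : K) ⊗ₜ[P] KaehlerDifferential.D k P f) = KaehlerDifferential.D k K (algebraMap P K f) := by
      simp [e, KaehlerDifferential.tensorKaehlerEquivOfFormallyEtale_apply]
    rw [← this, e.symm_apply_apply, LinearMap.liftBaseChange_tmul,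
      Derivation.liftKaehlerDifferential_comp_D, one_smul]
    rfl
  refine ⟨δ, fun j => algebraMap P K (X j), fun i j => ?_, fun i => ⟨fun j => if i = j then 1 else 0, fun f => ?_⟩⟩
  · rw [hδ, hX]; split <;> simp
  · show δ i (algebraMap P K f) = _
    simp [hδ]

end Groth.Agent.H2.Omega.DerivExt
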