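import Groth.Agent.H2.Omega.Etale
import Groth.Agent.H2.Omega.GeomReg
import Groth.Agent.Lib.Regular.Quotient
import Mathlib.LinearAlgebra.Dimension.OrzechProperty

/-!
# Freeness of the completed differentials at primes of full dimension
-/

set_option autoImplicit false
set_option linter.style.haveILetI false
set_option linter.unusedSectionVars false

universe u

open IsLocalRing TensorProduct Groth.Agent.H2.Rigid

namespace Groth.Agent.H2.Omega.Free

variable {k A : Type u} [Field k] [CommRing A] [Algebra k A] [IsLocalRing A] [IsNoetherianRing A]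
  (p : Ideal A) [p.IsPrime] {n : ℕ}

theorem geomReg_of_etaleAt [Algebra (MvPowerSeries (Fin n) k) A]
    [IsScalarTower k (MvPowerSeries (Fin n) k) A] [Module.Finite (MvPowerSeries (Fin n) k) A]
    (he : Algebra.IsEtaleAt (MvPowerSeries (Fin n) k) p) :
    CAlg.IsGeometricallyRegular k (Localization.AtPrime p) := by
  haveI := H24.PowerSeries.isRegularLocalRing_fin k n
  haveI := he
  haveI : Algebra.FinitePresentation (MvPowerSeries (Fin n) k) A :=
    Algebra.FinitePresentation.of_finiteType.mp inferInstance
  obtain ⟨f, hf, hf'⟩ := Algebra.exists_etale_of_isEtaleAt (R := MvPowerSeries (Fin n) k) p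
  haveI := hf'
  let φ : Localization.Away f →+* Localization.AtPrime p := IsLocalization.Away.lift f
    (IsLocalization.map_units (Localization.AtPrime p) (⟨f, hf⟩ : p.primeCompl))
  letI := φ.toAlgebra
  haveI : IsScalarTower A (Localization.Away f) (Localization.AtPrime p) :=
    .of_algebraMap_eq fun x => (IsLocalization.Away.lift_eq f _ x).symm
  haveI : IsScalarTower k (Localization.Away f) (Localization.AtPrime p) :=
    .to₁₃₄ k A (Localization.Away f) (Localization.AtPrime p)
  haveI : IsScalarTower k (MvPowerSeries (Fin n) k) (Localization.Away f) :=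
    .of_algebraMap_eq fun c => by
      rw [IsScalarTower.algebraMap_apply k A (Localization.Away f),
        IsScalarTower.algebraMap_apply k (MvPowerSeries (Fin n) k) A, ← IsScalarTower.algebraMap_apply]
  haveI : IsLocalization (Algebra.algebraMapSubmonoid (Localization.Away f) p.primeCompl)
      (Localization.AtPrime p) :=
    .isLocalization_of_submonoid_le _ _ (Submonoid.powers f) _
      (Submonoid.powers_le.mpr (by simpa using hf))
  exact GeomRegLocal.localization (Algebra.algebraMapSubmonoid (Localization.Away f) p.primeCompl) _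
    (GeomReg.of_etale (GeomReg.powerSeries k n) (Localization.Away f))

theorem isRegularLocalRing_of_geomReg {R : Type u} [CommRing R] [Algebra k R] [IsLocalRing R]
    (h : CAlg.IsGeometricallyRegular k R) : IsRegularLocalRing R :=
  haveI := h k inferInstance
  haveI : IsRegularRing R := IsRegularRing.of_ringEquiv (Algebra.TensorProduct.lid k R).toRingEquiv
  IsRegularLocalRing.of_isRegularRing_of_isLocalRing R

variable [IsAdicComplete (maximalIdeal A) A] [Module.Finite k (ResidueField A)]

/-- Over a domain `A_p`, generators in number at most the dimension are independent. -/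
theorem basis_of_genAt [IsDomain (Localization.AtPrime p)] (g : Fin n → Basic.Om k A)
    (hg : Tools.GenAt p (Set.range g)) (q : Ideal A) [q.IsPrime] (hqp : q ≤ p)
    (hqm : q ∈ minimalPrimes A) (hd : ringKrullDim (A ⧸ q) = n) :
    Module.Free (Localization.AtPrime p) (LocalizedModule p.primeCompl (Basic.Om k A)) ∧
      Module.finrank (Localization.AtPrime p) (LocalizedModule p.primeCompl (Basic.Om k A)) = n := by
  haveI := Basic.finite k A
  let R := Localization.AtPrime p
  let ι := LocalizedModule.mkLinearMap p.primeCompl (Basic.Om k A)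
  have hspan : ⊤ ≤ Submodule.span R (Set.range (ι ∘ g)) := by
    rw [Set.range_comp, (Tools.genAt_iff_localized p _).1 hg]
  -- independence in the fibre at `q`
  let L := q.ResidueField
  have hgq : Submodule.span L (Set.range (TensorProduct.mk A L (Basic.Om k A) 1 ∘ g)) = ⊤ := by
    rw [Set.range_comp]; exact (Tools.genAt_iff_fibre q _).1 (hg.mono p hqp)
  have hfin : Module.finrank L (L ⊗[A] Basic.Om k A) = n :=
    le_antisymm (Tools.finrank_le_of_genAt q g (hg.mono p hqp)) (Lower.le_finrank_fibre k A q hd)
  have hliq : LinearIndependent L (TensorProduct.mk A L (Basic.Om k A) 1 ∘ g) :=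
    linearIndependent_of_top_le_span_of_card_eq_finrank hgq.ge (by rw [Fintype.card_fin, hfin])
  have hq0 : ∀ a ∈ q, algebraMap A R a = 0 := by
    intro a ha
    have hdisj : Disjoint (p.primeCompl : Set A) q := Set.disjoint_left.2 fun x hx hxq => hx (hqp hxq)
    haveI := IsLocalization.isPrime_of_isPrime_disjoint p.primeCompl R q ‹_› hdisj
    have hc : (q.map (algebraMap A R)).comap (algebraMap A R) = q :=
      IsLocalization.under_map_of_isPrime_disjoint p.primeCompl R ‹_› hdisj
    have hbot : (⊥ : Ideal R).comap (algebraMap A R) = q := by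
      haveI := Ideal.isPrime_bot (α := R)
      have hle : (⊥ : Ideal R).comap (algebraMap A R) ≤ q :=
        (Ideal.comap_mono (bot_le (a := q.map (algebraMap A R)))).trans hc.le
      exact le_antisymm hle (hqm.2 ⟨Ideal.IsPrime.comap _, bot_le⟩ hle)
    exact (hbot.ge ha : algebraMap A R a ∈ (⊥ : Ideal R))
  have hli : LinearIndependent R (ι ∘ g) := by
    rw [Fintype.linearIndependent_iff]
    intro c hc i
    obtain ⟨b, hb⟩ := IsLocalization.exist_integer_multiples_of_finite p.primeCompl c
    choose a ha using hb
    have h0 : ι (∑ j, a j • g j) = 0 := by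
      rw [map_sum]
      have : ∑ j, a j • ι (g j) = (b : A) • ∑ j, c j • (ι ∘ g) j := by
        rw [Finset.smul_sum]
        refine Finset.sum_congr rfl fun j _ => ?_
        rw [← algebraMap_smul R (a j), ha, smul_assoc]
        rfl
      simp only [map_smul]
      rw [this, hc, smul_zero]
    obtain ⟨t, ht⟩ := IsLocalizedModule.exists_of_eq (S := p.primeCompl) (h0.trans (map_zero ι).symm)
    rw [smul_zero, Finset.smul_sum] at ht
    have h1 : ∑ j, (algebraMap A L ((t : A) * a j)) • (TensorProduct.mk A L (Basic.Om k A) 1 ∘ g) j = 0 := by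
      have := congrArg (TensorProduct.mk A L (Basic.Om k A) 1) ht
      rw [map_sum, map_zero] at this
      rw [← this]
      refine Finset.sum_congr rfl fun j _ => ?_
      rw [Submonoid.smul_def, smul_smul, map_smul, algebraMap_smul]
      rfl
    have h2 := Fintype.linearIndependent_iff.1 hliq _ h1 i
    rw [Ideal.algebraMap_residueField_eq_zero] at h2
    have h3 : a i ∈ q := (Ideal.IsPrime.mem_or_mem ‹_› h2).resolve_left fun h => t.2 (hqp h)
    have h4 : (b : A) • c i = 0 := by rw [← ha i]; exact hq0 _ h3
    rw [Algebra.smul_def] at h4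
    exact ((IsLocalization.map_units R b).mul_right_eq_zero).1 h4
  let B := Module.Basis.mk hli hspan
  exact ⟨Module.Free.of_basis B, by rw [Module.finrank_eq_card_basis B, Fintype.card_fin]⟩

/-- The main consequence. -/
theorem free_and_geomReg (hp : p ≠ maximalIdeal A) (hdim : ringKrullDim A = n)
    (q : Ideal A) (hqm : q ∈ minimalPrimes A) (hqp : q ≤ p) (hd : ringKrullDim (A ⧸ q) = n)
    (hrank : Module.finrank p.ResidueField (p.ResidueField ⊗[A] Basic.Om k A) ≤ n) :
    (Module.Free (Localization.AtPrime p) (LocalizedModule p.primeCompl (Basic.Om k A)) ∧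
      Module.finrank (Localization.AtPrime p) (LocalizedModule p.primeCompl (Basic.Om k A)) = n) ∧
      CAlg.IsGeometricallyRegular k (Localization.AtPrime p) ∧
      ∃ (_ : Algebra (MvPowerSeries (Fin n) k) A) (_ : IsScalarTower k (MvPowerSeries (Fin n) k) A),
        IsLocalHom (algebraMap (MvPowerSeries (Fin n) k) A) ∧ Module.Finite (MvPowerSeries (Fin n) k) A ∧
          Algebra.IsEtaleAt (MvPowerSeries (Fin n) k) p := by
  haveI : q.IsPrime := hqm.1.1
  obtain ⟨algP, tow, hloc, hfin, hu⟩ :=
    (Unram.exists_iff p hp ⟨q, hqm, hqp, hd.trans hdim.symm⟩ n).2 hrank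
  have he := Etale.isEtaleAt p hu q hqp hd
  have hg := geomReg_of_etaleAt p he
  haveI := isRegularLocalRing_of_geomReg hg
  haveI := Lib.Regular.Quotient.isDomain (Localization.AtPrime p)
  exact ⟨basis_of_genAt p _ (Unram.genAt_of_unramified p) q hqp hqm hd, hg, algP, tow, hloc, hfin, he⟩

end Groth.Agent.H2.Omega.Free
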