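import Groth.Agent.H2.Omega.Basic
import Groth.Agent.H2.Omega.Tools
import Groth.Agent.H2.Omega.DerivExt
import Groth.Agent.Lib.Cohen.PSRegular
import Mathlib.RingTheory.MvPowerSeries.Derivative
import Mathlib.RingTheory.LocalRing.ResidueField.Basic

/-!
# The fibres of the completed differentials have dimension at least the dimension of the components
-/

set_option autoImplicit false
set_option linter.style.haveILetI false

universe u

open IsLocalRing TensorProduct

namespace Groth.Agent.H2.Omega.Lower

variable (k A : Type u) [Field k] [CommRing A] [Algebra k A] [IsLocalRing A] [IsNoetherianRing A]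
  [IsAdicComplete (maximalIdeal A) A] [Module.Finite k (ResidueField A)]

/-- A finite injective map from a power series ring to a quotient domain. -/
theorem exists_normalization (q : Ideal A) [q.IsPrime] {d : ℕ} (hd : ringKrullDim (A ⧸ q) = d) :
    ∃ g : MvPowerSeries (Fin d) k →ₐ[k] A ⧸ q, Function.Injective g ∧ g.toRingHom.Finite := by
  haveI : Nontrivial (A ⧸ q) := Ideal.Quotient.nontrivial_iff.2 (Ideal.IsPrime.ne_top ‹_›)
  haveI : IsLocalRing (A ⧸ q) := IsLocalRing.of_surjective' (Ideal.Quotient.mk q) Ideal.Quotient.mk_surjective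
  haveI : IsLocalHom (Ideal.Quotient.mk q) := IsLocalHom.of_surjective _ Ideal.Quotient.mk_surjective
  have hm : (maximalIdeal A).map (algebraMap A (A ⧸ q)) = maximalIdeal (A ⧸ q) := by
    rw [Ideal.Quotient.algebraMap_eq, ← IsLocalRing.maximalIdeal_comap (Ideal.Quotient.mk q),
      Ideal.map_comap_of_surjective _ Ideal.Quotient.mk_surjective]
  haveI : IsAdicComplete (maximalIdeal A) (A ⧸ q) := Lib.Adic.Complete.isAdicComplete_of_finite
  haveI : IsAdicComplete (maximalIdeal (A ⧸ q)) (A ⧸ q) := by
    rw [← hm]; exact (IsAdicComplete.map_algebraMap_iff _ _).2 ‹_›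
  let ρ : ResidueField A →ₐ[k] ResidueField (A ⧸ q) :=
    { IsLocalRing.ResidueField.map (Ideal.Quotient.mk q) with
      commutes' := fun r => rfl }
  haveI : Module.Finite k (ResidueField (A ⧸ q)) := Module.Finite.of_surjective ρ.toLinearMap (fun z => by
    obtain ⟨y, rfl⟩ := IsLocalRing.residue_surjective z
    obtain ⟨a, rfl⟩ := Ideal.Quotient.mk_surjective y
    exact ⟨residue A a, rfl⟩)
  obtain ⟨x, hx, hrad⟩ := Lib.Cohen.PSRegular.exists_sop (A ⧸ q) hd
  obtain ⟨g, -, hfin⟩ := Tools.exists_finite_algHom (k := k) x hx hrad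
  exact ⟨g, Lib.Cohen.PSRegular.injective_of_finite g.toRingHom hfin (H24.PowerSeries.ringKrullDim_eq k d) hd, hfin⟩

theorem le_finrank_fibre (q : Ideal A) [q.IsPrime] {d : ℕ} (hd : ringKrullDim (A ⧸ q) = d) :
    d ≤ Module.finrank q.ResidueField (q.ResidueField ⊗[A] Basic.Om k A) := by
  classical
  haveI := Basic.finite k A
  obtain ⟨g, hginj, hgfin⟩ := exists_normalization k A q hd
  let P := MvPowerSeries (Fin d) k
  let L := q.ResidueField
  letI : Algebra P (A ⧸ q) := g.toRingHom.toAlgebra
  haveI : Module.Finite P (A ⧸ q) := hgfin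
  haveI : IsScalarTower k P (A ⧸ q) := .of_algebraMap_eq fun r => (g.commutes r).symm
  letI : Algebra P L := ((algebraMap (A ⧸ q) L).comp g.toRingHom).toAlgebra
  haveI : IsScalarTower P (A ⧸ q) L := .of_algebraMap_eq' rfl
  haveI : IsScalarTower k P L := .of_algebraMap_eq fun r => by
    rw [IsScalarTower.algebraMap_apply k (A ⧸ q) L, ← g.commutes r]; rfl
  have hPL : Function.Injective (algebraMap P L) :=
    (IsFractionRing.injective (A ⧸ q) L).comp hginj
  let K := FractionRing P
  letI : Algebra K L := (IsFractionRing.lift (A := P) (K := K) hPL).toAlgebra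
  haveI : IsScalarTower P K L := .of_algebraMap_eq fun f => (IsFractionRing.lift_algebraMap hPL f).symm
  haveI : IsScalarTower k K L := .of_algebraMap_eq fun r => by
    rw [IsScalarTower.algebraMap_apply k P K, ← IsScalarTower.algebraMap_apply P K L,
      ← IsScalarTower.algebraMap_apply]
  obtain ⟨s, hs⟩ := Module.finite_def.1 ‹Module.Finite P (A ⧸ q)›
  haveI : Module.Finite K L := by
    let T := Algebra.adjoin K ((algebraMap (A ⧸ q) L) '' (s : Set (A ⧸ q)))
    have hint : ∀ a : A ⧸ q, IsIntegral K (algebraMap (A ⧸ q) L a) := fun a =>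
      ((Algebra.IsIntegral.isIntegral (R := P) a).map (IsScalarTower.toAlgHom P (A ⧸ q) L)).tower_top
    haveI : Module.Finite K T := Module.Finite.iff_fg.2 (fg_adjoin_of_finite
      (s.finite_toSet.image _) (by rintro _ ⟨a, -, rfl⟩; exact hint a))
    have hD : ∀ a : A ⧸ q, algebraMap (A ⧸ q) L a ∈ T := fun a => by
      have ha : a ∈ Submodule.span P (s : Set (A ⧸ q)) := hs ▸ Submodule.mem_top
      induction ha using Submodule.span_induction with
      | mem x hx => exact Algebra.subset_adjoin ⟨x, hx, rfl⟩
      | zero => rw [map_zero]; exact zero_mem _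
      | add x y _ _ hx hy => rw [map_add]; exact add_mem hx hy
      | smul r x _ hx =>
        rw [Algebra.smul_def, map_mul, ← IsScalarTower.algebraMap_apply, IsScalarTower.algebraMap_apply P K L]
        exact mul_mem (T.algebraMap_mem _) hx
    have htop : T = ⊤ := by
      rw [eq_top_iff]
      intro z _
      obtain ⟨u, v, hv, rfl⟩ := IsFractionRing.div_surjective (A := A ⧸ q) z
      haveI : Algebra.IsIntegral K T := Algebra.IsIntegral.of_finite K T
      have hfield : IsField T := isField_of_isIntegral_of_isField' (R := K) (Field.toIsField K)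
      have hv0 : (⟨_, hD v⟩ : T) ≠ 0 := fun h0 => nonZeroDivisors.ne_zero hv
        (IsFractionRing.injective (A ⧸ q) L ((congrArg Subtype.val h0).trans (map_zero _).symm))
      obtain ⟨w, hw⟩ := hfield.mul_inv_cancel hv0
      have hw' : algebraMap (A ⧸ q) L v * (w : L) = 1 := congrArg Subtype.val hw
      rw [div_eq_mul_inv, ← eq_inv_of_mul_eq_one_right hw']
      exact mul_mem (hD u) w.2
    exact Module.Finite.equiv ((Subalgebra.equivOfEq _ _ htop).trans Subalgebra.topEquiv).toLinearEquiv
  -- dual derivations on `L`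
  let pd : Fin d → Derivation k P P := fun i => MvPowerSeries.pderiv k i
  have h0 := DerivExt.good_fractionRing (D := pd) K (fun i => (MvPowerSeries.X i : P)) fun i j => by
    rcases eq_or_ne i j with rfl | h
    · rw [if_pos rfl]; exact MvPowerSeries.pderiv_X_self
    · rw [if_neg h]; exact MvPowerSeries.pderiv_X_of_ne (Ne.symm h)
  obtain ⟨δ, l, hdual, hcomb⟩ := DerivExt.good_of_finite (L := L) h0
  choose c hc using hcomb
  have hcP : ∀ i (f : P), δ i (algebraMap P L f) = ∑ j, c i j * algebraMap P L (pd j f) := fun i f => by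
    have := hc i f
    simpa [← IsScalarTower.algebraMap_apply] using this
  -- their values on `A` lie in finite submodules
  have hfac : ∀ i, ∃ f : Basic.Om k A →ₗ[A] L, ∀ a, f (Basic.dh k A a) = δ i (algebraMap A L a) := by
    intro i
    let δA : Derivation k A L := (δ i).compAlgebraMap A
    let N : Submodule A L := Submodule.span A
      ((fun a => δ i (algebraMap (A ⧸ q) L a)) '' (s : Set (A ⧸ q)) ∪
        Set.range (fun z : s × Fin d => algebraMap (A ⧸ q) L z.1.1 * c i z.2))
    haveI : Module.Finite A N := Module.Finite.iff_fg.2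
      (Submodule.fg_span ((s.finite_toSet.image _).union (Set.finite_range _)))
    have hN : ∀ a, δA a ∈ N := fun a => by
      show δ i (algebraMap A L a) ∈ N
      rw [IsScalarTower.algebraMap_apply A (A ⧸ q) L]
      have hl : ∀ (f : P) (z : L), z ∈ N → algebraMap P L f * z ∈ N := fun f z hz => by
        obtain ⟨b, hb⟩ := Ideal.Quotient.mk_surjective (g f)
        rw [show algebraMap P L f = algebraMap A L b by
          rw [IsScalarTower.algebraMap_apply A (A ⧸ q) L, Ideal.Quotient.algebraMap_eq, hb]; rfl,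
          ← Algebra.smul_def]
        exact Submodule.smul_mem _ _ hz
      obtain ⟨b, -, hb⟩ := Submodule.mem_span_finset.1
        (show algebraMap A (A ⧸ q) a ∈ Submodule.span P (s : Set (A ⧸ q)) from hs ▸ Submodule.mem_top)
      rw [← hb, map_sum, map_sum]
      refine Submodule.sum_mem _ fun z hz => ?_
      rw [Algebra.smul_def, map_mul, ← IsScalarTower.algebraMap_apply, Derivation.leibniz, smul_eq_mul,
        smul_eq_mul, hcP]
      refine add_mem (hl _ _ (Submodule.subset_span (Or.inl ⟨z, hz, rfl⟩))) ?_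
      rw [Finset.mul_sum]
      refine Submodule.sum_mem _ fun j _ => ?_
      rw [← mul_assoc, mul_comm _ (algebraMap P L _)]
      exact hl _ _ (Submodule.subset_span (Or.inr ⟨(⟨z, hz⟩, j), rfl⟩))
    let δN : Derivation k A N :=
      { toFun := fun a => ⟨δA a, hN a⟩
        map_add' := fun a b => Subtype.ext (δA.map_add a b)
        map_smul' := fun r a => Subtype.ext (δA.map_smul r a)
        map_one_eq_zero' := Subtype.ext δA.map_one_eq_zero
        leibniz' := fun a b => Subtype.ext (δA.leibniz a b) }
    obtain ⟨f, hf⟩ := Basic.exists_lift k A δN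
    exact ⟨N.subtype.comp f, fun a => congrArg Subtype.val (hf a)⟩
  choose f hf using hfac
  let Ψ : q.ResidueField ⊗[A] Basic.Om k A →ₗ[L] (Fin d → L) := (LinearMap.pi f).liftBaseChange L
  have hΨ : ∀ a, Ψ (1 ⊗ₜ[A] Basic.dh k A a) = fun i => δ i (algebraMap A L a) := fun a => by
    simp [Ψ, funext_iff, hf]
  have hsurj : LinearMap.range Ψ = ⊤ := by
    rw [eq_top_iff, ← (Pi.basisFun L (Fin d)).span_eq, Submodule.span_le]
    rintro _ ⟨j, rfl⟩
    obtain ⟨u, v, hv, huv⟩ := IsFractionRing.div_surjective (A := A ⧸ q) (l j)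
    obtain ⟨u, rfl⟩ := Ideal.Quotient.mk_surjective u
    obtain ⟨v, rfl⟩ := Ideal.Quotient.mk_surjective v
    have hv0 : algebraMap A L v ≠ 0 := fun h0 => nonZeroDivisors.ne_zero hv
      (IsFractionRing.injective (A ⧸ q) L (h0.trans (map_zero _).symm))
    have hu : algebraMap A L u = l j * algebraMap A L v := ((div_eq_iff hv0).1 huv)
    refine ⟨(algebraMap A L v)⁻¹ • ((1 : L) ⊗ₜ[A] Basic.dh k A u - l j • ((1 : L) ⊗ₜ[A] Basic.dh k A v)), ?_⟩
    rw [map_smul, map_sub, map_smul, hΨ, hΨ]
    ext i
    simp only [Pi.smul_apply, Pi.sub_apply, smul_eq_mul, Pi.basisFun_apply]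
    rw [hu, Derivation.leibniz, hdual, smul_eq_mul, smul_eq_mul, Pi.single_apply]
    split
    · rw [mul_one, add_sub_cancel_left, inv_mul_cancel₀ hv0]
    · rw [mul_zero, add_zero, sub_self, mul_zero]
  have := LinearMap.finrank_range_le Ψ
  rw [hsurj, finrank_top, Module.finrank_fin_fun] at this
  exact this

/-- `dim A/q` is at most the number of generators at any prime above `q`. -/
theorem le_finrank (p q : Ideal A) [p.IsPrime] [q.IsPrime] (hqp : q ≤ p) {d : ℕ}
    (hd : ringKrullDim (A ⧸ q) = d) :
    d ≤ Module.finrank p.ResidueField (p.ResidueField ⊗[A] Basic.Om k A) :=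
  haveI := Basic.finite k A
  (le_finrank_fibre k A q hd).trans (Tools.finrank_mono p hqp)

end Groth.Agent.H2.Omega.Lower
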