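import Groth.Agent.H52.FBase.PurInsepRed
import Groth.Agent.Lib.PBasis.FieldSmooth
import Mathlib.RingTheory.LocalRing.Basic

/-!
# A finite purely inseparable extension making a field geometrically reduced
-/

set_option autoImplicit false
set_option linter.style.haveILetI false

universe u

open TensorProduct

namespace Groth.Agent.H2.Omega.PurInsep

theorem exists_ext (k E : Type u) [Field k] [Field E] [Algebra k E]
    (hN : IsNoetherianRing (↥(perfectClosure k (AlgebraicClosure k)) ⊗[k] E)) :
    ∃ (k' : Type u) (_ : Field k') (_ : Algebra k k'), Module.Finite k k' ∧ IsPurelyInseparable k k' ∧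
      Algebra.IsGeometricallyReduced k' ((k' ⊗[k] E) ⧸ nilradical (k' ⊗[k] E)) := by
  classical
  let P := perfectClosure k (AlgebraicClosure k)
  haveI := hN
  obtain ⟨s, hs⟩ := IsNoetherian.noetherian (nilradical (↥P ⊗[k] E))
  choose S hS using fun x : ↥P ⊗[k] E => TensorProduct.exists_finset x
  let T : Set (AlgebraicClosure k) := ↑((s.biUnion fun x => (S x).image fun i => (i.1 : AlgebraicClosure k)))
  have hTP : IntermediateField.adjoin k T ≤ P := by
    rw [IntermediateField.adjoin_le_iff]
    intro a ha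
    obtain ⟨x, -, hx⟩ := Finset.mem_biUnion.mp ha
    obtain ⟨i, -, rfl⟩ := Finset.mem_image.mp hx
    exact i.1.2
  let k' := IntermediateField.adjoin k T
  have hfd : FiniteDimensional k k' :=
    IntermediateField.finiteDimensional_adjoin fun a _ => Algebra.IsIntegral.isIntegral a
  have hpi : IsPurelyInseparable k k' := (le_perfectClosure_iff _ _ _).mp hTP
  refine ⟨↥k', inferInstance, inferInstance, hfd, hpi, ?_⟩
  let ι : ↥k' →ₐ[k] ↥P := IntermediateField.inclusion hTP
  let _ : Algebra k' P := ι.toRingHom.toAlgebra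
  have : IsScalarTower k k' P := .of_algebraMap_eq fun c => (ι.commutes c).symm
  refine H52.FBase.PurInsepRed.of_nilradical_defined (P := ↥P) s hs fun x hx => ?_
  refine ⟨∑ i ∈ (S x).attach, (⟨(i.1.1 : AlgebraicClosure k), IntermediateField.subset_adjoin k T
    (Finset.mem_biUnion.mpr ⟨x, hx, Finset.mem_image.mpr ⟨i.1, i.2, rfl⟩⟩)⟩ : ↥k') ⊗ₜ[k] i.1.2, ?_⟩
  conv_rhs => rw [hS x, ← Finset.sum_attach]
  rw [TensorProduct.tmul_sum, map_sum]
  refine Finset.sum_congr rfl fun i _ => ?_
  rw [Algebra.TensorProduct.cancelBaseChange_tmul, Algebra.smul_def, mul_one]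
  rfl

theorem isMaximal_nilradical (k k' E : Type u) [Field k] [Field k'] [Field E] [Algebra k k'] [Algebra k E]
    [IsPurelyInseparable k k'] : (nilradical (k' ⊗[k] E)).IsMaximal := by
  obtain ⟨M, hM⟩ := Ideal.exists_maximal (k' ⊗[k] E)
  haveI := hM
  rwa [← H52.FBase.PurInsepRed.maximal_le_nilradical M]

/-- The hypothesis of `exists_ext` holds for finite extensions of geometrically reduced fields. -/
theorem isNoetherianRing (k P L E : Type u) [Field k] [Field P] [Field L] [Field E] [Algebra k P]
    [IsPurelyInseparable k P] [Algebra k L] [Algebra L E] [Algebra k E] [IsScalarTower k L E]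
    [FiniteDimensional L E] [Algebra.IsGeometricallyReduced k L] :
    IsNoetherianRing (P ⊗[k] E) := by
  have hmax := isMaximal_nilradical k P L
  rw [nilradical_eq_zero, Ideal.zero_eq_bot] at hmax
  letI : Field (L ⊗[k] P) := IsField.toField (MulEquiv.isField
    ((Ideal.Quotient.maximal_ideal_iff_isField_quotient _).1 hmax)
    ((Algebra.TensorProduct.comm k L P).toRingEquiv.trans (RingEquiv.quotientBot (P ⊗[k] L)).symm).toMulEquiv)
  haveI : IsNoetherianRing (L ⊗[k] P) := inferInstance
  haveI : IsNoetherianRing ((L ⊗[k] P) ⊗[L] E) := IsNoetherianRing.of_finite (L ⊗[k] P) _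
  exact isNoetherianRing_of_ringEquiv ((L ⊗[k] P) ⊗[L] E)
    (((Algebra.TensorProduct.comm L (L ⊗[k] P) E).toRingEquiv.trans
      (Algebra.TensorProduct.cancelBaseChange k L L E P).toRingEquiv).trans
      (Algebra.TensorProduct.comm k E P).toRingEquiv)

end Groth.Agent.H2.Omega.PurInsep
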