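import Groth.Agent.H2.Omega.Imperf

/-!
# The rank of the differentials of the fraction field of a complete local domain
-/

set_option autoImplicit false
set_option linter.style.haveILetI false
set_option linter.unusedSectionVars false

universe u

open IsLocalRing TensorProduct Groth.Agent.H2.Rigid Groth.Agent.Lib.PBasis.Cartier

namespace Groth.Agent.H2.Omega.Rank

theorem rank_coker {L V W X : Type u} [Field L] [AddCommGroup V] [Module L V] [AddCommGroup W] [Module L W]
    [AddCommGroup X] [Module L X] (f : V →ₗ[L] W) (hf : Function.Injective f) (g : W →ₗ[L] X) (hg : Good g 0) :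
    Module.Finite L (LinearMap.ker (g ∘ₗ f)) ∧
      Module.rank L (X ⧸ LinearMap.range (g ∘ₗ f)) =
        Module.rank L (W ⧸ LinearMap.range f) + Module.rank L (LinearMap.ker (g ∘ₗ f)) := by
  obtain ⟨hk, hc, hi⟩ := hg
  haveI := hk
  haveI := hc
  let ι : LinearMap.ker (g ∘ₗ f) →ₗ[L] LinearMap.ker g :=
    (f.comp (LinearMap.ker (g ∘ₗ f)).subtype).codRestrict _ fun v => v.2
  have hι : Function.Injective ι := fun a b h => Subtype.ext (hf (congrArg Subtype.val h))
  haveI : Module.Finite L (LinearMap.ker (g ∘ₗ f)) := Module.Finite.of_injective ι hι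
  refine ⟨inferInstance, ?_⟩
  let S := LinearMap.range f
  have hT : LinearMap.range (g ∘ₗ f) = S.map g := LinearMap.range_comp f g
  let φ : (W ⧸ S) →ₗ[L] X ⧸ LinearMap.range (g ∘ₗ f) :=
    S.mapQ _ g (by rintro _ ⟨v, rfl⟩; exact ⟨v, rfl⟩)
  let ψ : LinearMap.ker g →ₗ[L] W ⧸ S := S.mkQ.comp (LinearMap.ker g).subtype
  have hψ : LinearMap.ker φ = LinearMap.range ψ := by
    apply le_antisymm
    · intro x hx
      obtain ⟨w, rfl⟩ := Submodule.mkQ_surjective S x
      obtain ⟨v, hv⟩ := (Submodule.Quotient.mk_eq_zero _).1 (LinearMap.mem_ker.1 hx)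
      refine ⟨⟨w - f v, by rw [LinearMap.mem_ker, map_sub, ← hv, LinearMap.comp_apply, sub_self]⟩, ?_⟩
      exact (Submodule.Quotient.eq S).2 ⟨-v, by simp⟩
    · rintro _ ⟨⟨w, hw⟩, rfl⟩
      rw [LinearMap.mem_ker]
      exact (congrArg (Submodule.Quotient.mk (p := LinearMap.range (g ∘ₗ f))) hw).trans rfl
  have hkψ : Module.rank L (LinearMap.ker ψ) = Module.rank L (LinearMap.ker (g ∘ₗ f)) := by
    refine (LinearEquiv.ofBijective (ι.codRestrict (LinearMap.ker ψ) fun v => ?_) ⟨?_, ?_⟩).rank_eq.symm
    · exact (Submodule.Quotient.mk_eq_zero S).2 ⟨v.1, rfl⟩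
    · exact fun a b h => hι (congrArg Subtype.val h)
    · rintro ⟨⟨w, hw⟩, hwψ⟩
      obtain ⟨v, hv⟩ := (Submodule.Quotient.mk_eq_zero S).1 hwψ
      exact ⟨⟨v, by rw [LinearMap.mem_ker, LinearMap.comp_apply, hv]; exact hw⟩, Subtype.ext (Subtype.ext hv)⟩
  have hmq : (LinearMap.range φ) = (LinearMap.range g).map (LinearMap.range (g ∘ₗ f)).mkQ :=
    Submodule.range_mapQ ..
  have hcoker : Module.rank L ((X ⧸ LinearMap.range (g ∘ₗ f)) ⧸ LinearMap.range φ) =
      Module.rank L (LinearMap.ker g) := by
    have e := ((Submodule.quotEquivOfEq _ _ hmq).trans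
      (Submodule.quotientQuotientEquivQuotient (LinearMap.range (g ∘ₗ f)) (LinearMap.range g)
        (LinearMap.range_comp_le_range f g))).rank_eq
    rw [e, ← Module.finrank_eq_rank, ← Module.finrank_eq_rank]
    rw [LinearMap.index_eq_finrank_sub] at hi
    exact_mod_cast (show Module.finrank L (X ⧸ LinearMap.range g) = Module.finrank L (LinearMap.ker g) by omega)
  have e1 := Submodule.rank_quotient_add_rank (LinearMap.range φ)
  have e2 := LinearMap.rank_range_add_rank_ker φ
  have e3 := LinearMap.rank_range_add_rank_ker ψ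
  rw [hψ] at e2
  rw [← e1, ← e2, hcoker, ← e3, hkψ]
  ring

variable (p : ℕ) [Fact p.Prime] (k : Type u) [Field k] [CharP k p]

theorem le_rank_powerSeries (n : ℕ) :
    (n : Cardinal.{u}) ≤ Module.rank (FractionRing (MvPowerSeries (Fin n) k))
      (Ω[FractionRing (MvPowerSeries (Fin n) k)⁄k]) := by
  let P := MvPowerSeries (Fin n) k
  haveI := Etale.isDomain_P (k := k) (n := n)
  haveI : IsAdicComplete (maximalIdeal P) P := H24.PowerSeries.isAdicComplete k (Fin n)
  haveI := H24.PowerSeries.isRegularLocalRing_fin k n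
  haveI : Module.Finite k (ResidueField P) :=
    Module.Finite.of_surjective (Algebra.linearMap k _) (H24.PowerSeries.residue_surjective k (Fin n))
  haveI := Basic.finite k P
  let K := FractionRing P
  haveI : Algebra.FormallyEtale P K := Algebra.FormallyEtale.of_isLocalization (nonZeroDivisors P)
  let e := KaehlerDifferential.tensorKaehlerEquivOfFormallyEtale k P K
  let q : Ω[P⁄k] →ₗ[P] Basic.Om k P := AdicCompletion.of (maximalIdeal P) (Ω[P⁄k])
  have hq : Function.Surjective q := by
    rw [← LinearMap.range_eq_top, eq_top_iff, ← Basic.span_range_dh k P, Submodule.span_le]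
    rintro _ ⟨a, rfl⟩
    exact ⟨KaehlerDifferential.D k P a, rfl⟩
  have hn : Module.finrank K (K ⊗[P] Basic.Om k P) = n := Generic.finrank_fractionRing (A := P) (r := n)
    (fun a => ⟨Polynomial.X - Polynomial.C a, by simp [P], by
      rw [Polynomial.map_sub, Polynomial.map_X, Polynomial.map_C]; exact Polynomial.separable_X_sub_C⟩)
    (fun _ _ h => h)
  have h1 := LinearMap.rank_le_of_surjective ((q.baseChange K).comp e.symm.toLinearMap)
    ((LinearMap.lTensor_surjective K hq).comp e.symm.surjective)
  rw [← Module.finrank_eq_rank, hn] at h1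
  exact h1

theorem of_finite (L E : Type u) [Field L] [Field E] [Algebra k L] [Algebra L E] [Algebra k E]
    [IsScalarTower k L E] [FiniteDimensional L E]
    (hinj : Function.Injective (KaehlerDifferential.mapBaseChange ℤ k L)) (n : ℕ)
    (hle : (n : Cardinal.{u}) ≤ Module.rank L (Ω[L⁄k])) :
    Module.Finite E (LinearMap.ker (KaehlerDifferential.mapBaseChange ℤ k E)) ∧
      (n : Cardinal.{u}) + Module.rank E (LinearMap.ker (KaehlerDifferential.mapBaseChange ℤ k E)) ≤
        Module.rank E (Ω[E⁄k]) := by
  let f₀ := KaehlerDifferential.mapBaseChange ℤ k L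
  let c := TensorProduct.AlgebraTensorModule.cancelBaseChange k L E E (Ω[k⁄ℤ])
  let f := (f₀.baseChange E).comp c.symm.toLinearMap
  have hf : Function.Injective f :=
    (Module.Flat.lTensor_preserves_injective_linearMap f₀ hinj).comp c.symm.injective
  obtain ⟨hfin', hrank⟩ := rank_coker f hf _ (hasIndex_of_finite (K := L) (L := E))
  have heq : KaehlerDifferential.mapBaseChange ℤ k E = KaehlerDifferential.mapBaseChange ℤ L E ∘ₗ f := by
    refine TensorProduct.AlgebraTensorModule.ext fun x ω => ?_
    simp only [f, f₀, c, LinearMap.comp_apply, LinearEquiv.coe_coe,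
      TensorProduct.AlgebraTensorModule.cancelBaseChange_symm_tmul, LinearMap.baseChange_tmul,
      KaehlerDifferential.mapBaseChange_tmul, one_smul]
    congr 1
    have h2 : (KaehlerDifferential.map ℤ ℤ L E).restrictScalars k ∘ₗ
          (KaehlerDifferential.map ℤ ℤ k L) = KaehlerDifferential.map ℤ ℤ k E := by
      refine Derivation.liftKaehlerDifferential_unique _ _ (Derivation.ext fun b => ?_)
      simp [← IsScalarTower.algebraMap_apply]
    exact (LinearMap.congr_fun h2 ω).symm
  rw [← heq] at hfin' hrank
  refine ⟨hfin', ?_⟩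
  rw [← (cokerEquiv (K := k) (L := E)).rank_eq, hrank]
  refine add_le_add ?_ le_rfl
  have hr : LinearMap.range f = LinearMap.range (f₀.baseChange E) :=
    LinearMap.range_comp_of_range_eq_top _ (LinearMap.range_eq_top.2 c.symm.surjective)
  have hsurj : Function.Surjective ((LinearMap.range f₀).mkQ.baseChange E) :=
    LinearMap.lTensor_surjective E (Submodule.mkQ_surjective _)
  have hran : LinearMap.range (f₀.baseChange E) = LinearMap.ker ((LinearMap.range f₀).mkQ.baseChange E) := by
    apply SetLike.ext
    intro z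
    exact (lTensor_exact E (LinearMap.exact_map_mkQ_range f₀) (Submodule.mkQ_surjective _) z).symm
  rw [((Submodule.quotEquivOfEq _ _ (hr.trans hran)).trans
    (LinearMap.quotKerEquivOfSurjective _ hsurj)).rank_eq, Module.rank_baseChange,
    Cardinal.lift_id]
  exact hle.trans (cokerEquiv (K := k) (L := L)).rank_eq.ge

theorem finite_and_le {C : Type u} [CommRing C] [Algebra k C] [IsLocalRing C] [IsNoetherianRing C]
    [IsAdicComplete (maximalIdeal C) C] [IsDomain C] [Module.Finite k (ResidueField C)]
    {n : ℕ} (hn : ringKrullDim C = n) (E : Type u) [Field E] [Algebra C E] [IsFractionRing C E]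
    [Algebra k E] [IsScalarTower k C E] :
    Module.Finite E (LinearMap.ker (KaehlerDifferential.mapBaseChange ℤ k E)) ∧
      (n : Cardinal.{u}) + Module.rank E (LinearMap.ker (KaehlerDifferential.mapBaseChange ℤ k E)) ≤
        Module.rank E (Ω[E⁄k]) := by
  haveI := Etale.isDomain_P (k := k) (n := n)
  obtain ⟨x, hx, hrad⟩ := Lib.Cohen.PSRegular.exists_sop C hn
  obtain ⟨g, -, hfin⟩ := Tools.exists_finite_algHom (k := k) x hx hrad
  let P := MvPowerSeries (Fin n) k
  let L := FractionRing P
  letI : Algebra P C := g.toRingHom.toAlgebra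
  haveI : Module.Finite P C := hfin
  haveI : IsScalarTower k P C := .of_algebraMap_eq fun r => (g.commutes r).symm
  have hginj := Lib.Cohen.PSRegular.injective_of_finite g.toRingHom hfin
    (H24.PowerSeries.ringKrullDim_eq k n) hn
  letI : Algebra P E := ((algebraMap C E).comp g.toRingHom).toAlgebra
  haveI : IsScalarTower P C E := .of_algebraMap_eq' rfl
  haveI : IsScalarTower k P E := .of_algebraMap_eq fun r => by
    rw [IsScalarTower.algebraMap_apply k C E, ← g.commutes r]; rfl
  have hPE : Function.Injective (algebraMap P E) := (IsFractionRing.injective C E).comp hginj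
  letI : Algebra L E := (IsFractionRing.lift (A := P) (K := L) hPE).toAlgebra
  haveI : IsScalarTower P L E := .of_algebraMap_eq fun f => (IsFractionRing.lift_algebraMap hPE f).symm
  haveI : IsScalarTower k L E := .of_algebraMap_eq fun r => by
    rw [IsScalarTower.algebraMap_apply k P L, ← IsScalarTower.algebraMap_apply P L E,
      ← IsScalarTower.algebraMap_apply]
  haveI : Algebra.IsAlgebraic L E := by
    refine ⟨fun z => IsIntegral.isAlgebraic ?_⟩
    obtain ⟨u, v, hv, rfl⟩ := IsFractionRing.div_surjective (A := C) z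
    have hint : ∀ a : C, IsIntegral L (algebraMap C E a) := fun a =>
      ((Algebra.IsIntegral.isIntegral (R := P) a).map (IsScalarTower.toAlgHom P C E)).tower_top
    rw [div_eq_mul_inv]
    exact (hint u).mul (hint v).inv
  haveI : Algebra.EssFiniteType C E := Algebra.EssFiniteType.of_isLocalization E (nonZeroDivisors C)
  haveI : Algebra.EssFiniteType P E := .comp P C E
  haveI : Algebra.EssFiniteType L E := .of_comp P L E
  haveI : FiniteDimensional L E := Algebra.finite_of_essFiniteType_of_isAlgebraic
  exact of_finite k L E (Imperf.injective_of_geomReg (E := L)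
    (GeomRegLocal.localization (nonZeroDivisors P) L (GeomReg.powerSeries k n))) n (le_rank_powerSeries k n)

end Groth.Agent.H2.Omega.Rank
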