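import Groth.Agent.H2.Omega.Imperf
import Groth.Agent.H2.Omega.Free

/-!
# The rank at a prime with geometrically regular local ring
-/

set_option autoImplicit false
set_option linter.style.haveILetI false
set_option linter.unusedSectionVars false

universe u

open IsLocalRing TensorProduct Groth.Agent.H2.Rigid Groth.Agent.Lib.PBasis.Cartier

namespace Groth.Agent.H2.Omega.RankP

/-- Concatenation of chains. -/
theorem dim_add_dim_le {A : Type u} [CommRing A] (P q : Ideal A) [P.IsPrime] [q.IsPrime] (hqP : q ≤ P)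
    (hq0 : ∀ a ∈ q, algebraMap A (Localization.AtPrime P) a = 0) :
    ringKrullDim (Localization.AtPrime P) + ringKrullDim (A ⧸ P) ≤ ringKrullDim (A ⧸ q) := by
  let S := PrimeSpectrum.zeroLocus (R := A) (q : Set A)
  let x : S := ⟨⟨P, ‹_›⟩, hqP⟩
  haveI : Nonempty S := ⟨x⟩
  let R := Localization.AtPrime P
  let f : PrimeSpectrum R → S := fun Q => ⟨PrimeSpectrum.comap (algebraMap A R) Q, fun a ha => by
    show algebraMap A R a ∈ Q.asIdeal
    rw [hq0 a ha]; exact zero_mem _⟩
  have hf : StrictMono f := fun Q Q' h => by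
    show PrimeSpectrum.comap (algebraMap A R) Q < PrimeSpectrum.comap (algebraMap A R) Q'
    refine lt_of_le_not_ge (Ideal.comap_mono h.le) fun hge => h.not_ge ?_
    intro z hz
    obtain ⟨a, t, rfl⟩ := IsLocalization.exists_mk'_eq P.primeCompl z
    rw [IsLocalization.mk'_mem_iff] at hz ⊢
    exact hge hz
  let g : PrimeSpectrum.zeroLocus (R := A) (P : Set A) → S := fun Q => ⟨Q.1, hqP.trans Q.2⟩
  have hg : StrictMono g := fun Q Q' h => h
  letI : OrderBot (PrimeSpectrum.zeroLocus (R := A) (P : Set A)) :=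
    { bot := ⟨⟨P, ‹_›⟩, le_refl P⟩, bot_le := fun Q => Q.2 }
  have h1 : ringKrullDim R ≤ (Order.height x : ℕ∞) := by
    rw [← IsLocalRing.maximalIdeal_height_eq_ringKrullDim,
      PrimeSpectrum.height_eq_orderHeight ⟨maximalIdeal R, inferInstance⟩, WithBot.coe_le_coe]
    refine (Order.height_le_height_apply_of_strictMono f hf _).trans (le_of_eq ?_)
    congr 1
    exact Subtype.ext (PrimeSpectrum.ext Localization.AtPrime.comap_maximalIdeal)
  have h2 : ringKrullDim (A ⧸ P) ≤ (Order.coheight x : ℕ∞) := by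
    rw [ringKrullDim_quotient, ← Order.coheight_bot_eq_krullDim, WithBot.coe_le_coe]
    refine (Order.coheight_le_coheight_apply_of_strictMono g hg ⊥).trans (le_of_eq ?_)
    rfl
  refine (add_le_add h1 h2).trans ?_
  rw [ringKrullDim_quotient, Order.krullDim_eq_iSup_height_add_coheight_of_nonempty, ← WithBot.coe_add,
    WithBot.coe_le_coe]
  exact le_iSup (fun a : S => Order.height a + Order.coheight a) x

variable {k : Type u} [Field k]

/-- `dim Ω_K - dim Ω_k` is minus the index. -/
theorem finrank_kaehler_int {K : Type u} [Field K] [Algebra k K] [Module.Finite k (Ω[k⁄ℤ])] {d : ℕ}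
    (h : HasIndex k K (-(d : ℤ))) :
    Module.Finite K (Ω[K⁄ℤ]) ∧ Module.finrank K (Ω[K⁄ℤ]) = Module.finrank k (Ω[k⁄ℤ]) + d := by
  obtain ⟨h1, h2, h3⟩ := h
  haveI : Module.Finite K (LinearMap.range (KaehlerDifferential.mapBaseChange ℤ k K)) :=
    Module.Finite.range _
  haveI : Module.Finite K (Ω[K⁄ℤ] ⧸ LinearMap.range (KaehlerDifferential.mapBaseChange ℤ k K)) := h2
  haveI : Module.Finite K (Ω[K⁄ℤ]) :=
    Module.Finite.of_submodule_quotient (LinearMap.range (KaehlerDifferential.mapBaseChange ℤ k K))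
  refine ⟨inferInstance, ?_⟩
  have e1 := LinearMap.finrank_range_add_finrank_ker (KaehlerDifferential.mapBaseChange ℤ k K)
  have e2 := Submodule.finrank_quotient_add_finrank (LinearMap.range (KaehlerDifferential.mapBaseChange ℤ k K))
  rw [LinearMap.index_eq_finrank_sub] at h3
  rw [Module.finrank_baseChange] at e1
  omega

theorem int_transfer {K : Type u} [Field K] (i : Algebra ℤ K) {s : ℕ}
    (h : letI := Ring.toIntAlgebra K; Module.Finite K (Ω[K⁄ℤ]) ∧ Module.finrank K (Ω[K⁄ℤ]) = s) :
    letI := i; Module.Finite K (Ω[K⁄ℤ]) ∧ Module.finrank K (Ω[K⁄ℤ]) = s := by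
  obtain rfl : i = Ring.toIntAlgebra K := Subsingleton.elim _ _
  exact h

theorem finrank_tensor_le {R : Type u} [CommRing R] [IsLocalRing R] {h s : ℕ}
    (a : Fin h → R) (ha : Ideal.span (Set.range a) = maximalIdeal R)
    [Module.Finite (ResidueField R) (Ω[ResidueField R⁄ℤ])]
    (hκ : Module.finrank (ResidueField R) (Ω[ResidueField R⁄ℤ]) ≤ s) :
    Module.Finite (ResidueField R) (ResidueField R ⊗[R] Ω[R⁄ℤ]) ∧
      Module.finrank (ResidueField R) (ResidueField R ⊗[R] Ω[R⁄ℤ]) ≤ h + s := by
  let f := KaehlerDifferential.mapBaseChange ℤ R (ResidueField R)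
  have hsurj : Function.Surjective (algebraMap R (ResidueField R)) := IsLocalRing.residue_surjective
  have hex := KaehlerDifferential.exact_kerCotangentToTensor_mapBaseChange ℤ R (ResidueField R) hsurj
  let v : Fin h → (ResidueField R) ⊗[R] Ω[R⁄ℤ] := fun j => 1 ⊗ₜ[R] KaehlerDifferential.D ℤ R (a j)
  have hker : LinearMap.ker f ≤ Submodule.span (ResidueField R) (Set.range v) := by
    intro z hz
    obtain ⟨w, rfl⟩ := (hex z).1 hz
    obtain ⟨⟨y, hy⟩, rfl⟩ := Ideal.toCotangent_surjective _ w
    rw [KaehlerDifferential.kerCotangentToTensor_toCotangent]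
    have hy' : y ∈ Ideal.span (Set.range a) := by
      rw [ha]; exact Ideal.Quotient.eq_zero_iff_mem.1 hy
    obtain ⟨c, rfl⟩ := Ideal.mem_span_range_iff_exists_fun.1 hy'
    show (1 : (ResidueField R)) ⊗ₜ[R] KaehlerDifferential.D ℤ R (∑ i, c i * a i) ∈ _
    rw [map_sum, TensorProduct.tmul_sum]
    refine Submodule.sum_mem _ fun i _ => ?_
    have h0 : algebraMap R (ResidueField R) (a i) = 0 :=
      Ideal.Quotient.eq_zero_iff_mem.2 (ha ▸ Ideal.subset_span ⟨i, rfl⟩)
    rw [Derivation.leibniz, TensorProduct.tmul_add, TensorProduct.tmul_smul, TensorProduct.tmul_smul,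
      ← algebraMap_smul (ResidueField R) (a i), h0, zero_smul, add_zero, ← algebraMap_smul (ResidueField R) (c i)]
    exact Submodule.smul_mem _ _ (Submodule.subset_span ⟨i, rfl⟩)
  haveI : Module.Finite (ResidueField R) (Submodule.span (ResidueField R) (Set.range v)) := Module.Finite.span_of_finite (ResidueField R) (Set.finite_range v)
  haveI : Module.Finite (ResidueField R) (LinearMap.ker f) := Submodule.finiteDimensional_of_le hker
  haveI : Module.Finite (ResidueField R) (((ResidueField R) ⊗[R] Ω[R⁄ℤ]) ⧸ LinearMap.ker f) :=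
    Module.Finite.equiv f.quotKerEquivRange.symm
  haveI : Module.Finite (ResidueField R) ((ResidueField R) ⊗[R] Ω[R⁄ℤ]) := Module.Finite.of_submodule_quotient (LinearMap.ker f)
  refine ⟨inferInstance, ?_⟩
  have e1 := LinearMap.finrank_range_add_finrank_ker f
  have e2 := (Submodule.finrank_le (LinearMap.range f)).trans hκ
  have e3 := Submodule.finrank_mono hker
  have e4 := finrank_range_le_card (R := (ResidueField R)) v
  rw [Set.finrank, Fintype.card_fin] at e4
  omega

/-- The relative rank at the closed point of an adically formally smooth local algebra. -/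
theorem finrank_le {R : Type u} [CommRing R] [IsLocalRing R] [Algebra k R]
    (hinj : Function.Injective ((KaehlerDifferential.mapBaseChange ℤ k R).lTensor (ResidueField R)))
    [Module.Finite k (Ω[k⁄ℤ])] [Module.Finite (ResidueField R) (ResidueField R ⊗[R] Ω[R⁄ℤ])] {m : ℕ}
    (h : Module.finrank (ResidueField R) (ResidueField R ⊗[R] Ω[R⁄ℤ]) ≤ m + Module.finrank k (Ω[k⁄ℤ])) :
    Module.finrank (ResidueField R) (ResidueField R ⊗[R] Ω[R⁄k]) ≤ m := by
  let f := (KaehlerDifferential.mapBaseChange ℤ k R).baseChange (ResidueField R)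
  let g := (KaehlerDifferential.map ℤ k R R).baseChange (ResidueField R)
  have hg : Function.Surjective g :=
    LinearMap.lTensor_surjective (ResidueField R) (KaehlerDifferential.map_surjective ℤ k R)
  have hex : Function.Exact f g :=
    lTensor_exact (ResidueField R) (KaehlerDifferential.exact_mapBaseChange_map ℤ k R) (KaehlerDifferential.map_surjective ℤ k R)
  have hf : Function.Injective f := hinj
  have e0 : Module.finrank (ResidueField R) ((ResidueField R) ⊗[R] (R ⊗[k] Ω[k⁄ℤ])) = Module.finrank k (Ω[k⁄ℤ]) := by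
    rw [(TensorProduct.AlgebraTensorModule.cancelBaseChange k R (ResidueField R) (ResidueField R) (Ω[k⁄ℤ])).finrank_eq,
      Module.finrank_baseChange]
  have e1 := LinearMap.finrank_range_add_finrank_ker g
  rw [hex.linearMap_ker_eq, LinearMap.finrank_range_of_inj hf, e0, LinearMap.range_eq_top.2 hg,
    finrank_top] at e1
  omega

variable {A : Type u} [CommRing A] [IsLocalRing A] [IsNoetherianRing A] [Algebra k A]
  [IsAdicComplete (maximalIdeal A) A] [Module.Finite k (ResidueField A)]

theorem quotient_props (Q : Ideal A) [Q.IsPrime] :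
    ∃ (_ : IsLocalRing (A ⧸ Q)), IsAdicComplete (maximalIdeal (A ⧸ Q)) (A ⧸ Q) ∧
      Module.Finite k (ResidueField (A ⧸ Q)) := by
  haveI : Nontrivial (A ⧸ Q) := Ideal.Quotient.nontrivial_iff.2 (Ideal.IsPrime.ne_top ‹_›)
  haveI hl : IsLocalRing (A ⧸ Q) := IsLocalRing.of_surjective' (Ideal.Quotient.mk Q) Ideal.Quotient.mk_surjective
  haveI : IsLocalHom (Ideal.Quotient.mk Q) := IsLocalHom.of_surjective _ Ideal.Quotient.mk_surjective
  have hm : (maximalIdeal A).map (algebraMap A (A ⧸ Q)) = maximalIdeal (A ⧸ Q) := by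
    rw [Ideal.Quotient.algebraMap_eq, ← IsLocalRing.maximalIdeal_comap (Ideal.Quotient.mk Q),
      Ideal.map_comap_of_surjective _ Ideal.Quotient.mk_surjective]
  haveI : IsAdicComplete (maximalIdeal A) (A ⧸ Q) := Lib.Adic.Complete.isAdicComplete_of_finite
  refine ⟨hl, hm ▸ (IsAdicComplete.map_algebraMap_iff _ _).2 ‹_›, ?_⟩
  let ρ : ResidueField A →ₐ[k] ResidueField (A ⧸ Q) :=
    { IsLocalRing.ResidueField.map (Ideal.Quotient.mk Q) with
      commutes' := fun r => rfl }
  exact Module.Finite.of_surjective ρ.toLinearMap (fun z => by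
    obtain ⟨y, rfl⟩ := IsLocalRing.residue_surjective z
    obtain ⟨a, rfl⟩ := Ideal.Quotient.mk_surjective y
    exact ⟨residue A a, rfl⟩)

/-- Characteristic `p`. -/
theorem rank_le_charP (p : ℕ) [Fact p.Prime] [CharP k p] (hk : (frobenius k p).Finite)
    (P : Ideal A) [P.IsPrime] (hP : CAlg.IsGeometricallyRegular k (Localization.AtPrime P))
    {h d : ℕ} (hh : ringKrullDim (Localization.AtPrime P) = h) (hd : ringKrullDim (A ⧸ P) = d) :
    Module.finrank P.ResidueField (P.ResidueField ⊗[A] Basic.Om k A) ≤ h + d := by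
  let R := Localization.AtPrime P
  let K := ResidueField R
  haveI : IsRegularLocalRing R := Free.isRegularLocalRing_of_geomReg hP
  haveI : IsNoetherianRing R := IsLocalization.isNoetherianRing P.primeCompl _ inferInstance
  haveI : Module.Finite k (Ω[k⁄ℤ]) := Frob.finite_kaehler_int p hk
  obtain ⟨_, _, _⟩ := quotient_props (k := k) P
  haveI : IsScalarTower k (A ⧸ P) P.ResidueField := .of_algebraMap_eq fun r => rfl
  obtain ⟨hfK, hKdim⟩ := finrank_kaehler_int
    (Imperf.hasIndex (k := k) (C := A ⧸ P) p hk hd P.ResidueField)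
  haveI := hfK
  obtain ⟨s, hs, hspan⟩ := Submodule.FG.exists_span_set_encard_eq_spanFinrank
    (IsNoetherian.noetherian (maximalIdeal R))
  have hsf : s.Finite := Set.finite_of_encard_eq_coe hs
  have hcard : hsf.toFinset.card = h := by
    have h1 := (IsRegularLocalRing.spanFinrank_maximalIdeal (R := R)).trans hh
    rw [hsf.encard_eq_coe_toFinset_card] at hs
    exact (by exact_mod_cast hs : hsf.toFinset.card = _).trans (by exact_mod_cast h1)
  let a : Fin h → R := fun i => (hsf.toFinset.equivFinOfCardEq hcard).symm i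
  have ha : Ideal.span (Set.range a) = maximalIdeal R := by
    rw [← hspan]
    congr 1
    ext z
    exact ⟨fun ⟨i, hi⟩ => hi ▸ hsf.mem_toFinset.1 ((hsf.toFinset.equivFinOfCardEq hcard).symm i).2,
      fun hz => ⟨hsf.toFinset.equivFinOfCardEq hcard ⟨z, hsf.mem_toFinset.2 hz⟩, by simp [a]⟩⟩
  obtain ⟨hfK', hKdim'⟩ := int_transfer (K := ResidueField R) (@ResidueField.algebra R _ _ ℤ _ (Ring.toIntAlgebra R)) ⟨hfK, hKdim⟩
  haveI := hfK'
  obtain ⟨hf, hle⟩ := finrank_tensor_le (R := R) a ha (s := Module.finrank k (Ω[k⁄ℤ]) + d) hKdim'.le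
  haveI := hf
  have hmain := finrank_le (k := k) (R := R) (m := h + d)
    ((Groth.Agent.S2471.result (k := k) (A := R)).1
      (GeomRegAlg.adic_of_piReg (GeomRegAlg.PIReg.of_geometricallyRegular hP))).2
    (hle.trans (by omega))
  refine le_trans (le_of_eq ?_) hmain
  haveI := Imperf.finite_kaehler (k := k) (C := A) p hk
  haveI : Algebra.FormallyEtale A R := Algebra.FormallyEtale.of_isLocalization P.primeCompl
  let e1 : P.ResidueField ⊗[A] Basic.Om k A ≃ₗ[K] K ⊗[A] Ω[A⁄k] :=
    (TensorProduct.AlgebraTensorModule.congr (LinearEquiv.refl K K) Imperf.omEquiv.symm)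
  let e2 : K ⊗[A] Ω[A⁄k] ≃ₗ[K] K ⊗[R] (R ⊗[A] Ω[A⁄k]) :=
    (TensorProduct.AlgebraTensorModule.cancelBaseChange A R K K (Ω[A⁄k])).symm
  let e3 : K ⊗[R] (R ⊗[A] Ω[A⁄k]) ≃ₗ[K] K ⊗[R] Ω[R⁄k] :=
    TensorProduct.AlgebraTensorModule.congr (LinearEquiv.refl K K)
      (KaehlerDifferential.tensorKaehlerEquivOfFormallyEtale k A R)
  exact (e1.trans (e2.trans e3)).finrank_eq

end Groth.Agent.H2.Omega.RankP
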