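import Groth.Agent.H2.Omega.Choose

/-!
# Units making given differentials generate
-/

set_option autoImplicit false
set_option linter.style.haveILetI false
set_option linter.unusedSectionVars false

universe u

open IsLocalRing TensorProduct

namespace Groth.Agent.H2.Omega.Units

variable {k A : Type u} [Field k] [CommRing A] [Algebra k A] [IsLocalRing A] [IsNoetherianRing A]
  [IsAdicComplete (maximalIdeal A) A] [Module.Finite k (ResidueField A)] (p : Ideal A) [p.IsPrime]

theorem exists_unit (W : Submodule p.ResidueField (p.ResidueField ⊗[A] Basic.Om k A)) (hW : W ≠ ⊤)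
    (x : A) (hx : x ∉ p) : ∃ u : Aˣ, Choose.db (k := k) p ((u : A) * x) ∉ W := by
  by_contra hcon
  push Not at hcon
  have h1 : Choose.db (k := k) p x ∈ W := by simpa using hcon 1
  have hu : ∀ u : Aˣ, Choose.db (k := k) p (u : A) ∈ W := fun u => by
    have h := hcon u
    rw [Choose.db_mul, W.add_mem_iff_right (W.smul_mem _ h1),
      W.smul_mem_iff (by simpa [Ideal.algebraMap_residueField_eq_zero] using hx)] at h
    exact h
  have hall : ∀ a, Choose.db (k := k) p a ∈ W := fun a => by
    by_cases ha : IsUnit a
    · exact hu ha.unit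
    · have h1' : IsUnit (1 + a) := by
        have := isUnit_one_sub_self_of_mem_nonunits (-a) (by rwa [mem_nonunits_iff, IsUnit.neg_iff])
        rwa [sub_neg_eq_add] at this
      have h := hu h1'.unit
      rw [IsUnit.unit_spec, Choose.db_add, ← map_one (algebraMap k A), Choose.db_algebraMap, zero_add] at h
      exact h
  refine hW (Submodule.eq_top_iff'.2 fun z => ?_)
  induction z using TensorProduct.induction_on with
  | zero => exact zero_mem _
  | add b c hb hc => exact add_mem hb hc
  | tmul c y =>
    have h1 : (1 : p.ResidueField) ⊗ₜ[A] y ∈ W := by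
      have hy : y ∈ Submodule.span A (Set.range (Basic.dh k A)) := by rw [Basic.span_range_dh]; trivial
      induction hy using Submodule.span_induction with
      | mem w hw => obtain ⟨b, rfl⟩ := hw; exact hall b
      | zero => rw [TensorProduct.tmul_zero]; exact zero_mem _
      | add b c _ _ hb hc => rw [TensorProduct.tmul_add]; exact add_mem hb hc
      | smul r w _ hw =>
        rw [TensorProduct.tmul_smul, ← algebraMap_smul p.ResidueField r]
        exact W.smul_mem _ hw
    rw [show c ⊗ₜ[A] y = c • ((1 : p.ResidueField) ⊗ₜ[A] y) by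
      rw [TensorProduct.smul_tmul', smul_eq_mul, mul_one]]
    exact W.smul_mem _ h1

theorem exists_units (M : ℕ) (x : Fin M → A) (hx : ∀ i, x i ∉ p)
    (hM : Module.finrank p.ResidueField (p.ResidueField ⊗[A] Basic.Om k A) = M) :
    ∃ u : Fin M → Aˣ, Tools.GenAt p (Set.range fun i => Basic.dh k A ((u i : A) * x i)) := by
  classical
  haveI := Basic.finite k A
  have key : ∀ i (hi : i ≤ M), ∃ u : Fin i → Aˣ, i ≤ Module.finrank p.ResidueField
      (Submodule.span p.ResidueField
        (Set.range fun j => Choose.db (k := k) p ((u j : A) * x (Fin.castLE hi j)))) := by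
    intro i
    induction i with
    | zero => exact fun _ => ⟨Fin.elim0, Nat.zero_le _⟩
    | succ i ih =>
      intro hi
      obtain ⟨u, hu⟩ := ih (by omega)
      let W := Submodule.span p.ResidueField
        (Set.range fun j => Choose.db (k := k) p ((u j : A) * x (Fin.castLE (show i ≤ M by omega) j)))
      by_cases hW : W = ⊤
      · refine ⟨Fin.snoc u 1, ?_⟩
        have hle : W ≤ Submodule.span p.ResidueField (Set.range fun j : Fin (i+1) =>
            Choose.db (k := k) p (((Fin.snoc u 1 : Fin (i+1) → Aˣ) j : A) * x (Fin.castLE hi j))) :=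
          Submodule.span_le.2 (by
            rintro _ ⟨j, rfl⟩
            exact Submodule.subset_span ⟨j.castSucc, by simp⟩)
        rw [hW, top_le_iff] at hle
        rw [hle, finrank_top, hM]
        exact hi
      · obtain ⟨v, hv⟩ := exists_unit p W hW (x (Fin.castLE hi (Fin.last i))) (hx _)
        refine ⟨Fin.snoc u v, ?_⟩
        let W' := Submodule.span p.ResidueField (Set.range fun j : Fin (i+1) =>
            Choose.db (k := k) p (((Fin.snoc u v : Fin (i+1) → Aˣ) j : A) * x (Fin.castLE hi j)))
        have hle : W ≤ W' := Submodule.span_le.2 (by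
            rintro _ ⟨j, rfl⟩
            exact Submodule.subset_span ⟨j.castSucc, by simp⟩)
        have hlt : W < W' := lt_of_le_not_ge hle fun hge =>
          hv (hge (Submodule.subset_span ⟨Fin.last i, by simp⟩))
        exact Nat.succ_le_of_lt (Nat.lt_of_le_of_lt hu (Submodule.finrank_lt_finrank_of_lt hlt))
  obtain ⟨u, hu⟩ := key M le_rfl
  refine ⟨u, ?_⟩
  rw [Tools.genAt_iff_fibre, ← Set.range_comp]
  exact Submodule.eq_top_of_finrank_eq (le_antisymm (Submodule.finrank_le _) (by rw [hM]; exact hu))

end Groth.Agent.H2.Omega.Units
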